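import Cfsg.Agent.Lib.Involutions
import Cfsg.Prelude.Def_Involutions
import Mathlib.GroupTheory.GroupAction.Quotient
import Mathlib.GroupTheory.Perm.Cycle.Type

/-!
Counting involutions in the cosets of a strongly embedded subgroup.
-/

set_option autoImplicit false
set_option linter.unusedSectionVars false

namespace CfsgLib.StrongEmb

open Cfsg Subgroup
open CfsgLib.Involutions (mul_self_eq_one_of_orderOf inv_eq_self_of_orderOf orderOf_eq_two_iff')

variable {G : Type*} [Group G] [Finite G] {H : Subgroup G}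

theorem exists_inv (hH : IsStronglyEmbedded H) : ∃ s ∈ H, orderOf s = 2 := by
  obtain ⟨⟨s, hs⟩, h⟩ := exists_prime_orderOf_dvd_card' (G := ↥H) 2 hH.2.1.two_dvd
  exact ⟨s, hs, by rwa [Subgroup.orderOf_mk] at h⟩

theorem mem_of_conj (hH : IsStronglyEmbedded H) {s : G} (hs : s ∈ H) (hs2 : orderOf s = 2) {g : G}
    (hg : g * s * g⁻¹ ∈ H) : g ∈ H := by
  by_contra h
  have hmem : g * s * g⁻¹ ∈ H ⊓ H.map (MulAut.conj g).toMonoidHom := ⟨hg, ⟨s, hs, rfl⟩⟩
  have h2 := Subgroup.orderOf_dvd_natCard _ hmem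
  rw [Involutions.orderOf_conj, hs2] at h2
  exact (Nat.not_even_iff_odd.mpr (hH.2.2 g h)) (even_iff_two_dvd.mpr h2)

theorem centralizer_le (hH : IsStronglyEmbedded H) {s : G} (hs : s ∈ H) (hs2 : orderOf s = 2) :
    Subgroup.centralizer ({s} : Set G) ≤ H := fun g hg => by
  refine mem_of_conj hH hs hs2 ?_
  rw [Subgroup.mem_centralizer_singleton_iff.mp hg, mul_inv_cancel_right]
  exact hs

theorem odd_mul (hH : IsStronglyEmbedded H) {s i : G} (hs : s ∈ H) (hs2 : orderOf s = 2) (hi : i ∉ H)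
    (hi2 : orderOf i = 2) : Odd (orderOf (s * i)) := by
  rw [← Nat.not_even_iff_odd]
  intro he
  obtain ⟨c1, c2⟩ := Involutions.central_half (mul_self_eq_one_of_orderOf hs2) (mul_self_eq_one_of_orderOf hi2) he
  have hc := centralizer_le hH hs hs2 (Subgroup.mem_centralizer_singleton_iff.mpr c1.eq)
  exact hi (centralizer_le hH hc (Involutions.orderOf_half he) (Subgroup.mem_centralizer_singleton_iff.mpr c2.eq.symm))

/-- An involution outside `H` is `r s r⁻¹` for an involution `r` outside `H`. -/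
theorem exists_reflection (hH : IsStronglyEmbedded H) {s i : G} (hs : s ∈ H) (hs2 : orderOf s = 2) (hi : i ∉ H)
    (hi2 : orderOf i = 2) : ∃ r : G, orderOf r = 2 ∧ r ∉ H ∧ r * s * r⁻¹ = i := by
  have hs' := mul_self_eq_one_of_orderOf hs2
  have hi' := mul_self_eq_one_of_orderOf hi2
  obtain ⟨d, hd, he⟩ := Involutions.exists_conj_eq_of_odd hs' hi' (odd_mul hH hs hs2 hi hi2)
  obtain ⟨k, h | h⟩ := Involutions.mem_closure_pair hs' hi' hd
  · have hr : (d * s) * s * (d * s)⁻¹ = i := by rw [mul_inv_rev, ← he]; group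
    have hnH : d * s ∉ H := fun hm => hi (hr ▸ H.mul_mem (H.mul_mem hm hs) (H.inv_mem hm))
    refine ⟨d * s, orderOf_eq_two_iff'.mpr ⟨?_, fun e => hnH (e ▸ H.one_mem)⟩, hnH, hr⟩
    rw [h, show (s * i) ^ k * s * ((s * i) ^ k * s) = (s * i) ^ k * (s * (s * i) ^ k * s⁻¹) by
      rw [inv_eq_self_of_orderOf hs2]; group, Involutions.conj_zpow_eq_inv hs' hi' k, ← zpow_add, add_neg_cancel, zpow_zero]
  · have hnH : d ∉ H := fun hm => hi (he ▸ H.mul_mem (H.mul_mem hm hs) (H.inv_mem hm))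
    refine ⟨d, orderOf_eq_two_iff'.mpr ⟨?_, fun e => hnH (e ▸ H.one_mem)⟩, hnH, he⟩
    rw [h, show s * (s * i) ^ k * (s * (s * i) ^ k) = s * (s * i) ^ k * s⁻¹ * (s * i) ^ k by
      rw [inv_eq_self_of_orderOf hs2]; group, Involutions.conj_zpow_eq_inv hs' hi' k, ← zpow_add, neg_add_cancel, zpow_zero]

theorem reflection_injective (hH : IsStronglyEmbedded H) {s : G} (hs : s ∈ H) (hs2 : orderOf s = 2) {r r' : G}
    (hr : orderOf r = 2) (hrH : r ∉ H) (hr' : orderOf r' = 2) (hrH' : r' ∉ H)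
    (e : r * s * r⁻¹ = r' * s * r'⁻¹) : r = r' := by
  let f : {r : G // orderOf r = 2 ∧ r ∉ H} → {r : G // orderOf r = 2 ∧ r ∉ H} := fun r =>
    ⟨(r : G) * s * (r : G)⁻¹, by rw [Involutions.orderOf_conj, hs2], fun hm => r.2.2 (mem_of_conj hH hs hs2 hm)⟩
  have hsurj : Function.Surjective f := fun i => by
    obtain ⟨r, h1, h2, h3⟩ := exists_reflection hH hs hs2 i.2.2 i.2.1
    exact ⟨⟨r, h1, h2⟩, Subtype.ext h3⟩
  exact congrArg Subtype.val (Finite.injective_iff_surjective.mpr hsurj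
    (a₁ := ⟨r, hr, hrH⟩) (a₂ := ⟨r', hr', hrH'⟩) (Subtype.ext e))

theorem isConj_of_mem (hH : IsStronglyEmbedded H) {a : G} (ha : orderOf a = 2) :
    ∃ g : G, g⁻¹ * a * g ∈ H := by
  by_cases h : a ∈ H
  · exact ⟨1, by simpa using h⟩
  obtain ⟨s, hs, hs2⟩ := exists_inv hH
  obtain ⟨r, -, -, e⟩ := exists_reflection hH hs hs2 h ha
  exact ⟨r, by rw [← e]; simpa [mul_assoc] using hs⟩

/-- Each nontrivial coset contains as many involutions as `H`. -/
theorem card_coset_involutions (hH : IsStronglyEmbedded H) (y : G ⧸ H) :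
    Nat.card {i : G // orderOf i = 2 ∧ (i : G ⧸ H) = y} = Nat.card {t : G // orderOf t = 2 ∧ t ∈ H} := by
  classical
  have := Fintype.ofFinite (G ⧸ H)
  set k := Nat.card {t : G // orderOf t = 2 ∧ t ∈ H} with hk
  obtain ⟨s, hs, hs2⟩ := exists_inv hH
  have hle : ∀ z : G ⧸ H, Nat.card {i : G // orderOf i = 2 ∧ (i : G ⧸ H) = z} ≤ k := by
    intro z
    induction z using QuotientGroup.induction_on with
    | _ g =>
      by_cases hg : g ∈ H
      · refine le_of_eq (Nat.card_congr (Equiv.subtypeEquivRight fun i => and_congr_right fun _ => ?_))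
        rw [QuotientGroup.eq]
        exact ⟨fun h => by simpa using H.inv_mem ((H.mul_mem_cancel_right hg).mp h), fun h => H.mul_mem (H.inv_mem h) hg⟩
      have hout : ∀ i : G, ((i : G ⧸ H) = (g : G ⧸ H)) → i ∉ H := fun i h hi =>
        hg (by simpa using H.mul_mem hi (QuotientGroup.eq.mp h))
      refine Nat.card_le_card_of_injective (fun i => ⟨g⁻¹ * ((i : G) * s * (i : G)⁻¹) * g, ?_, ?_⟩) ?_
      · have := Involutions.orderOf_conj g⁻¹ ((i : G) * s * (i : G)⁻¹)
        rw [inv_inv] at this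
        rw [this, Involutions.orderOf_conj, hs2]
      · have h := QuotientGroup.eq.mp i.2.2
        have := H.mul_mem (H.mul_mem (H.inv_mem h) hs) h
        simpa [mul_assoc] using this
      · intro i j e
        have e' := congrArg Subtype.val e
        simp only [mul_left_inj, mul_right_inj] at e'
        exact Subtype.ext (reflection_injective hH hs hs2 i.2.1 (hout _ i.2.2) j.2.1 (hout _ j.2.2) (by simpa using e'))
  have htot : ∑ z : G ⧸ H, Nat.card {i : G // orderOf i = 2 ∧ (i : G ⧸ H) = z} = Fintype.card (G ⧸ H) * k := by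
    have h1 : ∑ z : G ⧸ H, Nat.card {i : G // orderOf i = 2 ∧ (i : G ⧸ H) = z} = Nat.card {i : G // orderOf i = 2} := by
      rw [← Nat.card_sigma]
      exact Nat.card_congr ⟨fun p => ⟨p.2, p.2.2.1⟩, fun i => ⟨(i : G), i, i.2, rfl⟩,
        fun ⟨z, i, h1, h2⟩ => by subst h2; rfl, fun i => rfl⟩
    rw [h1, hk, ← Nat.card_eq_fintype_card, ← Nat.card_prod]
    let φ : (G ⧸ H) × {t : G // orderOf t = 2 ∧ t ∈ H} → {i : G // orderOf i = 2} := fun p =>
      ⟨p.1.out * p.2 * p.1.out⁻¹, by rw [Involutions.orderOf_conj, p.2.2.1]⟩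
    refine (Nat.card_eq_of_bijective φ ⟨?_, ?_⟩).symm
    · rintro ⟨z, t⟩ ⟨z', t'⟩ e
      have e' : z.out * t * z.out⁻¹ = z'.out * t' * z'.out⁻¹ := congrArg Subtype.val e
      have hz : z = z' := by
        have hm := mem_of_conj hH t.2.2 t.2.1 (g := z'.out⁻¹ * z.out) (by
          have := t'.2.2
          rw [show (t' : G) = z'.out⁻¹ * z.out * t * (z'.out⁻¹ * z.out)⁻¹ by
            calc (t' : G) = z'.out⁻¹ * (z'.out * t' * z'.out⁻¹) * z'.out := by group
              _ = z'.out⁻¹ * (z.out * t * z.out⁻¹) * z'.out := by rw [e']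
              _ = _ := by group] at this
          exact this)
        rw [← QuotientGroup.out_eq' z, ← QuotientGroup.out_eq' z']
        exact (QuotientGroup.eq.mpr hm).symm
      subst hz
      exact Prod.ext rfl (Subtype.ext (by simpa using e'))
    · rintro ⟨i, hi⟩
      obtain ⟨g, hg⟩ := isConj_of_mem hH hi
      obtain ⟨h, hh⟩ := QuotientGroup.mk_out_eq_mul H g
      refine ⟨((g : G ⧸ H), ⟨(h : G)⁻¹ * (g⁻¹ * i * g) * h, ?_, H.mul_mem (H.mul_mem (H.inv_mem h.2) hg) h.2⟩),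
        Subtype.ext ?_⟩
      · have h1 := Involutions.orderOf_conj (h : G)⁻¹ (g⁻¹ * i * g)
        have h2 := Involutions.orderOf_conj g⁻¹ i
        rw [inv_inv] at h1 h2
        rw [h1, h2, hi]
      · show (g : G ⧸ H).out * ((h : G)⁻¹ * (g⁻¹ * i * g) * h) * (g : G ⧸ H).out⁻¹ = i
        rw [hh]; group
  by_contra hne
  have := Finset.sum_lt_sum (s := Finset.univ) (fun z _ => hle z)
    ⟨y, Finset.mem_univ _, lt_of_le_of_ne (hle y) hne⟩
  rw [htot, Finset.sum_const, Finset.card_univ, smul_eq_mul] at this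
  exact this.ne rfl

theorem card_swap (hH : IsStronglyEmbedded H) (x y : G ⧸ H) :
    Nat.card {i : G // orderOf i = 2 ∧ i • x = y} = Nat.card {t : G // orderOf t = 2 ∧ t ∈ H} := by
  induction x using QuotientGroup.induction_on with
  | _ g =>
    induction y using QuotientGroup.induction_on with
    | _ g' =>
      rw [← card_coset_involutions hH ((g⁻¹ * g' : G) : G ⧸ H)]
      refine Nat.card_congr (Equiv.subtypeEquiv (MulAut.conj g⁻¹).toEquiv fun i => ?_)
      show _ ↔ orderOf (g⁻¹ * i * g⁻¹⁻¹) = 2 ∧ _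
      rw [Involutions.orderOf_conj]
      refine and_congr_right fun _ => ?_
      show ((i * g : G) : G ⧸ H) = (g' : G ⧸ H) ↔ ((g⁻¹ * i * g⁻¹⁻¹ : G) : G ⧸ H) = _
      rw [QuotientGroup.eq, QuotientGroup.eq]
      simp [mul_assoc]

/-- The involutions of `H` are conjugate under `H ∩ uHu⁻¹`. -/
theorem exists_conj_in_inter (hH : IsStronglyEmbedded H) {u : G} (hu : orderOf u = 2) (huH : u ∉ H) {s t : G}
    (hs : s ∈ H) (hs2 : orderOf s = 2) (ht : t ∈ H) (ht2 : orderOf t = 2) :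
    ∃ d ∈ H ⊓ H.map (MulAut.conj u).toMonoidHom, d * s * d⁻¹ = t := by
  have hu' := inv_eq_self_of_orderOf hu
  obtain ⟨r, hr, hrH, he⟩ := exists_reflection hH hs hs2 (i := u * t * u⁻¹)
    (fun hm => huH (mem_of_conj hH ht ht2 hm)) (by rw [Involutions.orderOf_conj, ht2])
  have hd : u * r ∈ H := by
    refine mem_of_conj hH hs hs2 ?_
    rw [show u * r * s * (u * r)⁻¹ = u * (r * s * r⁻¹) * u⁻¹ by group, he, hu',
      show u * (u * t * u) * u = (u * u) * t * (u * u) by group, mul_self_eq_one_of_orderOf hu, one_mul, mul_one]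
    exact ht
  refine ⟨u * r, Subgroup.mem_inf.mpr ⟨hd, ⟨r * u, ?_, ?_⟩⟩, ?_⟩
  · have := H.inv_mem hd
    rwa [mul_inv_rev, inv_eq_self_of_orderOf hr, hu'] at this
  · show u * (r * u) * u⁻¹ = u * r
    group
  · rw [show u * r * s * (u * r)⁻¹ = u * (r * s * r⁻¹) * u⁻¹ by group, he, hu',
      show u * (u * t * u) * u = (u * u) * t * (u * u) by group, mul_self_eq_one_of_orderOf hu, one_mul, mul_one]

theorem all_isConj (hH : IsStronglyEmbedded H) {a b : G} (ha : orderOf a = 2) (hb : orderOf b = 2) : IsConj a b := by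
  obtain ⟨u, huH, hu⟩ : ∃ u : G, u ∉ H ∧ orderOf u = 2 := by
    obtain ⟨s, hs, hs2⟩ := exists_inv hH
    obtain ⟨g, hg⟩ : ∃ g : G, g ∉ H := by
      by_contra h
      push Not at h
      exact hH.1 ((Subgroup.eq_top_iff' _).mpr h)
    exact ⟨g * s * g⁻¹, fun hm => hg (mem_of_conj hH hs hs2 hm), by rw [Involutions.orderOf_conj, hs2]⟩
  have key : ∀ c : G, orderOf c = 2 → ∃ t ∈ H, orderOf t = 2 ∧ IsConj t c := fun c hc => by
    obtain ⟨g, hg⟩ := isConj_of_mem hH hc
    have h2 := Involutions.orderOf_conj g⁻¹ c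
    rw [inv_inv] at h2
    exact ⟨_, hg, h2.trans hc, isConj_iff.mpr ⟨g, by group⟩⟩
  obtain ⟨s, hs, hs2, h1⟩ := key a ha
  obtain ⟨t, ht, ht2, h2⟩ := key b hb
  obtain ⟨d, -, hd⟩ := exists_conj_in_inter hH hu huH hs hs2 ht ht2
  exact h1.symm.trans ((isConj_iff.mpr ⟨d, hd⟩).trans h2)

end CfsgLib.StrongEmb
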