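import Cfsg.Agent.Lib.ZStar.Main
import Cfsg.Agent.Lib.Involutions
import Cfsg.Agent.Lib.PResidual
import Cfsg.Agent.Lib.Coprime
import Cfsg.Prelude.Def_TwoFusion

/-!
Isolated involutions: cosets of the centralizer and the inverted elements of odd order.
-/

set_option autoImplicit false
set_option linter.unusedSectionVars false

namespace CfsgLib.IsolatedInv

open Cfsg Subgroup
open CfsgLib.Involutions (mul_self_eq_one_of_orderOf inv_eq_self_of_orderOf orderOf_conj)

universe u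
variable {G : Type u} [Group G] [Finite G] {z : G}

theorem odd_mul (hz : IsIsolatedInvolution z) (g : G) : Odd (orderOf (z * (g * z * g⁻¹))) :=
  Involutions.odd_of_isolated hz.1 hz.2 g

theorem conj (hz : IsIsolatedInvolution z) (k : G) : IsIsolatedInvolution (k * z * k⁻¹) :=
  ⟨by rw [orderOf_conj, hz.1], ZStar.isolated_conj hz.2 k⟩

/-- An element of odd order centralised and inverted by the same element is trivial. -/
theorem eq_one_of_inv_self {k : G} (ho : Odd (orderOf k)) (h : k = k⁻¹) : k = 1 := by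
  have h2 : orderOf k ∣ 2 := orderOf_dvd_of_pow_eq_one (by rw [pow_two]; exact mul_eq_one_iff_eq_inv.mpr h)
  rcases (Nat.dvd_prime Nat.prime_two).mp h2 with h | h
  · exact orderOf_eq_one_iff.mp h
  · rw [h] at ho; exact absurd ho (by decide)

theorem sq_inj {k k' : G} (hk : Odd (orderOf k)) (hk' : Odd (orderOf k')) (h : k * k = k' * k') : k = k' := by
  have e : k ^ (orderOf k * orderOf k' + 1) = k' ^ (orderOf k * orderOf k' + 1) := by
    obtain ⟨j, hj⟩ := hk.mul hk'
    rw [hj, show 2 * j + 1 + 1 = 2 * (j + 1) by ring, pow_mul, pow_mul, pow_two, pow_two, h]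
  rwa [pow_succ, pow_mul, pow_orderOf_eq_one, one_pow, one_mul, pow_succ, mul_comm (orderOf k), pow_mul,
    pow_orderOf_eq_one, one_pow, one_mul] at e

/-- The elements of odd order inverted by `z`. -/
def Inverted (z k : G) : Prop := Odd (orderOf k) ∧ z * k * z⁻¹ = k⁻¹

theorem conj_of_inverted (hz2 : orderOf z = 2) {k : G} (hk : z * k * z⁻¹ = k⁻¹) : k * z * k⁻¹ = k * k * z := by
  have h : z * k⁻¹ = k * z := by
    rw [← hk, inv_eq_self_of_orderOf hz2, ← mul_assoc, ← mul_assoc, mul_self_eq_one_of_orderOf hz2, one_mul]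
  rw [mul_assoc k z, h, ← mul_assoc]

/-- The square root of `w * z` for a conjugate `w` of `z`. -/
theorem exists_root (hz : IsIsolatedInvolution z) (g : G) :
    ∃ k : G, Inverted z k ∧ k * z * k⁻¹ = g * z * g⁻¹ ∧ ∃ m : ℕ, k = (g * z * g⁻¹ * z) ^ m := by
  set w := g * z * g⁻¹ with hw
  have hw2 : orderOf w = 2 := by rw [hw, orderOf_conj, hz.1]
  have hu : Odd (orderOf (w * z)) := by
    rw [show w * z = (z * w)⁻¹ by rw [mul_inv_rev, inv_eq_self_of_orderOf hz.1, inv_eq_self_of_orderOf hw2],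
      orderOf_inv]
    exact odd_mul hz g
  obtain ⟨m, hm⟩ := Involutions.exists_sqrt hu
  have hinv : z * (w * z) ^ m * z⁻¹ = ((w * z) ^ m)⁻¹ := by
    rw [← conj_pow, show z * (w * z) * z⁻¹ = (w * z)⁻¹ by
      rw [mul_inv_rev, inv_eq_self_of_orderOf hw2, mul_assoc z (w * z), mul_inv_cancel_right,
        inv_eq_self_of_orderOf hz.1], inv_pow]
  refine ⟨(w * z) ^ m, ⟨hu.of_dvd_nat (orderOf_pow_dvd m), hinv⟩, ?_, m, rfl⟩
  rw [conj_of_inverted hz.1 hinv, hm, mul_assoc, mul_self_eq_one_of_orderOf hz.1, mul_one]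

theorem inverted_inj (hz : IsIsolatedInvolution z) {k k' : G} (hk : Inverted z k) (hk' : Inverted z k')
    (h : k * z * k⁻¹ = k' * z * k'⁻¹) : k = k' := by
  rw [conj_of_inverted hz.1 hk.2, conj_of_inverted hz.1 hk'.2, mul_left_inj] at h
  exact sq_inj hk.1 hk'.1 h

theorem mem_centralizer_iff_conj {g k : G} :
    g⁻¹ * k ∈ Subgroup.centralizer ({z} : Set G) ↔ k * z * k⁻¹ = g * z * g⁻¹ := by
  rw [Subgroup.mem_centralizer_singleton_iff]
  constructor
  · intro h
    calc k * z * k⁻¹ = g * (g⁻¹ * k * z) * k⁻¹ := by group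
      _ = g * (z * (g⁻¹ * k)) * k⁻¹ := by rw [h]
      _ = g * z * g⁻¹ := by group
  · intro h
    calc g⁻¹ * k * z = g⁻¹ * (k * z * k⁻¹) * k := by group
      _ = g⁻¹ * (g * z * g⁻¹) * k := by rw [h]
      _ = z * (g⁻¹ * k) := by group

theorem existsUnique_inverted (hz : IsIsolatedInvolution z) (g : G) :
    ∃! k : G, (Odd (orderOf k) ∧ z * k * z⁻¹ = k⁻¹) ∧ g⁻¹ * k ∈ Subgroup.centralizer ({z} : Set G) := by
  obtain ⟨k, hk, e, -⟩ := exists_root hz g
  refine ⟨k, ⟨hk, mem_centralizer_iff_conj.mpr e⟩, fun k' ⟨hk', h'⟩ => ?_⟩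
  exact inverted_inj hz hk' hk ((mem_centralizer_iff_conj.mp h').trans e.symm)

theorem not_commute_conj (hz : IsIsolatedInvolution z) (g h : G) (hne : g * z * g⁻¹ ≠ h * z * h⁻¹) :
    ¬ Commute (g * z * g⁻¹ * (h * z * h⁻¹)) z := by
  intro hc
  set s := g * z * g⁻¹ with hs
  set t := h * z * h⁻¹ with ht
  have hs2 := (conj hz g).1
  have hu : Odd (orderOf (s * t)) := by
    have := odd_mul (conj hz g) (h * g⁻¹)
    rwa [show h * g⁻¹ * (g * z * g⁻¹) * (h * g⁻¹)⁻¹ = t by rw [ht]; group] at this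
  have ht2 : orderOf t = 2 := by rw [ht, orderOf_conj, hz.1]
  have hinv : s * (s * t) * s⁻¹ = (s * t)⁻¹ :=
    Involutions.conj_mul_eq_inv (mul_self_eq_one_of_orderOf hs2) (mul_self_eq_one_of_orderOf ht2)
  -- an odd power of `z s` inverts `s t`
  have hzs : ∀ n : ℕ, (z * s) ^ n * (s * t) * ((z * s) ^ n)⁻¹ = if Even n then s * t else (s * t)⁻¹ := by
    intro n
    induction n with
    | zero => simp
    | succ n ih =>
      have step : ∀ y, z * s * y * (z * s)⁻¹ = z * (s * y * s⁻¹) * z⁻¹ := fun y => by group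
      have hzc : ∀ y, Commute y z → z * y * z⁻¹ = y := fun y hy => by rw [← hy.eq, mul_inv_cancel_right]
      rw [pow_succ', mul_inv_rev, show z * s * (z * s) ^ n * (s * t) * (((z * s) ^ n)⁻¹ * (z * s)⁻¹) =
        z * s * ((z * s) ^ n * (s * t) * ((z * s) ^ n)⁻¹) * (z * s)⁻¹ by group, ih, step]
      by_cases he : Even n
      · rw [if_pos he, if_neg (by rwa [Nat.even_add_one, not_not]), hinv, hzc _ hc.inv_left]
      · rw [if_neg he, if_pos (Nat.even_add_one.mpr he), ← conj_inv, hinv, inv_inv, hzc _ hc]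
  have h1 := hzs (orderOf (z * s))
  rw [pow_orderOf_eq_one, one_mul, inv_one, mul_one, if_neg (Nat.not_even_iff_odd.mpr (odd_mul hz g))] at h1
  have h2 := eq_one_of_inv_self hu h1
  exact hne ((eq_inv_of_mul_eq_one_left h2).trans (inv_eq_self_of_orderOf ht2))

/-- Two `z`-invariant subgroups conjugate in `G` are conjugate by an element centralizing `z`. -/
theorem exists_conj_centralizer (hz : IsIsolatedInvolution z) {P : Subgroup G}
    (hP : z ∈ Subgroup.normalizer (P : Set G)) {g : G}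
    (hg : z ∈ Subgroup.normalizer ((P.map (MulAut.conj g).toMonoidHom : Subgroup G) : Set G)) :
    ∃ c ∈ Subgroup.centralizer ({z} : Set G),
      P.map (MulAut.conj c).toMonoidHom = P.map (MulAut.conj g).toMonoidHom := by
  set N := Subgroup.normalizer (P : Set G) with hN
  set w := g⁻¹ * z * g with hw
  have hwN : w ∈ N := by
    refine Subgroup.mem_normalizer_iff.mpr fun x => ?_
    have h1 := Subgroup.mem_normalizer_iff.mp hg (g * x * g⁻¹)
    have e : ∀ y, g * y * g⁻¹ ∈ P.map (MulAut.conj g).toMonoidHom ↔ y ∈ P := fun y =>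
      ⟨fun ⟨a, ha, ea⟩ => (MulAut.conj g).injective ea ▸ ha, fun hy => ⟨y, hy, rfl⟩⟩
    rw [e, show z * (g * x * g⁻¹) * z⁻¹ = g * (w * x * w⁻¹) * g⁻¹ by rw [hw]; group, e] at h1
    exact h1
  have hw2 : orderOf w = 2 := by
    have := orderOf_conj g⁻¹ z
    rw [inv_inv] at this
    rw [hw, this, hz.1]
  have hodd := odd_mul hz g⁻¹
  rw [inv_inv] at hodd
  obtain ⟨d, hd, e⟩ := Involutions.exists_conj_eq_of_odd (mul_self_eq_one_of_orderOf hz.1)
    (mul_self_eq_one_of_orderOf hw2) hodd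
  have hdN : d ∈ N := by
    refine (Subgroup.closure_le N).mpr ?_ hd
    rintro y (rfl | rfl)
    · exact hP
    · exact hwN
  refine ⟨g * d, Subgroup.mem_centralizer_singleton_iff.mpr ?_, ?_⟩
  · calc g * d * z = g * (d * z * d⁻¹) * d := by group
      _ = g * w * d := by rw [e]
      _ = z * (g * d) := by rw [hw]; group
  · have hPd : P.map (MulAut.conj d).toMonoidHom = P := by
      ext x
      rw [Subgroup.mem_map_equiv, MulAut.conj_symm_apply]
      exact (Subgroup.mem_normalizer_iff''.mp hdN x).symm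
    conv_rhs => rw [← hPd, Subgroup.map_map]
    congr 1
    ext x
    simp [mul_assoc]

theorem exists_factor (hz : IsIsolatedInvolution z) (g : G) :
    ∃ o ∈ pPrimeCore 2 G, ∃ c ∈ Subgroup.centralizer ({z} : Set G), g = o * c := by
  obtain ⟨k, -, e, m, hm⟩ := exists_root hz g
  refine ⟨k, hm ▸ Subgroup.pow_mem _ ?_ m, k⁻¹ * g, ?_, by group⟩
  · have h := ZStar.inZStar hz.1 hz.2 g
    rwa [inv_eq_self_of_orderOf hz.1] at h
  · rw [mem_centralizer_iff_conj]
    exact e.symm

theorem exists_invariant_sylow (hz : IsIsolatedInvolution z) {p : ℕ} [Fact p.Prime] :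
    ∃ P : Sylow p G, z ∈ Subgroup.normalizer ((P : Subgroup G) : Set G) := by
  by_cases hp : p = 2
  · subst hp
    obtain ⟨P, hP⟩ := (IsPGroup.of_card (G := Subgroup.zpowers z) (n := 1)
      (by rw [Nat.card_zpowers, hz.1, pow_one]) : IsPGroup 2 ↥(Subgroup.zpowers z)).exists_le_sylow
    exact ⟨P, Subgroup.le_normalizer (hP (Subgroup.mem_zpowers z))⟩
  set O := pPrimeCore 2 G with hO
  haveI : O.Normal := Subgroup.sSup_normal _ (fun _ h => h.1)
  obtain ⟨P₀⟩ : Nonempty (Sylow p G) := inferInstance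
  set K := O ⊔ (P₀ : Subgroup G) with hK
  have hKodd : Odd (Nat.card K) := by
    obtain ⟨n, hn⟩ := IsPGroup.iff_card.mp P₀.2
    have h1 : (Nat.card O).Coprime 2 := card_pPrimeCore_coprime 2
    have h2 : Nat.card K ∣ Nat.card (P₀ : Subgroup G) * Nat.card O := by
      rw [hK, sup_comm]; exact card_sup_dvd_mul _ O
    refine Odd.of_dvd_nat (Odd.mul ?_ (Nat.coprime_two_right.mp h1)) h2
    rw [hn]
    exact ((Fact.out : p.Prime).odd_of_ne_two hp).pow
  have hzK : Subgroup.zpowers z ≤ Subgroup.normalizer (K : Set G) := by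
    rw [Subgroup.zpowers_le]
    have hh : ∀ x ∈ K, z * x * z⁻¹ ∈ K := fun x hx => by
      have h1 := O.inv_mem (ZStar.inZStar hz.1 hz.2 x)
      have h2 := K.mul_mem (Subgroup.mem_sup_left (T := (P₀ : Subgroup G)) h1) hx
      rwa [show (x * z * x⁻¹ * z⁻¹)⁻¹ * x = z * x * z⁻¹ by group] at h2
    refine Subgroup.mem_normalizer_iff.mpr fun x => ⟨hh x, fun hx => ?_⟩
    have h3 := hh _ hx
    rwa [inv_eq_self_of_orderOf hz.1, show z * (z * x * z) * z = (z * z) * x * (z * z) by group,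
      mul_self_eq_one_of_orderOf hz.1, one_mul, mul_one] at h3
  have hcop : (Nat.card (Subgroup.zpowers z)).Coprime (Nat.card K) := by
    rw [Nat.card_zpowers, hz.1]; exact (Nat.coprime_two_left).mpr hKodd
  have hs : Group.IsSolvable (Subgroup.zpowers z) :=
    Group.isSolvable_of_comm fun a b => (IsMulCommutative.is_comm (M := ↥(Subgroup.zpowers z))).comm a b
  obtain ⟨S, hS⟩ := coprime_exists_invariant_sylow hzK hcop (Or.inl hs) p
  obtain ⟨T, hT⟩ := (S.2.map K.subtype).exists_le_sylow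
  refine ⟨T, ?_⟩
  have e : (S : Subgroup K).map K.subtype = (T : Subgroup G) := by
    refine Subgroup.eq_of_le_of_card_ge hT ?_
    rw [T.card_eq_multiplicity, ← P₀.card_eq_multiplicity, Subgroup.card_map_of_injective K.subtype_injective]
    have hle : (P₀ : Subgroup G) ≤ K := le_sup_right
    obtain ⟨S', hS'⟩ := (P₀.2.of_equiv (Subgroup.subgroupOfEquivOfLe hle).symm).exists_le_sylow
    refine le_trans ?_ ((Subgroup.card_le_of_le hS').trans (S'.card_eq_multiplicity.trans S.card_eq_multiplicity.symm).le)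
    exact (Nat.card_congr (Subgroup.subgroupOfEquivOfLe hle).toEquiv).ge
  rw [← e]
  exact hS (Subgroup.mem_zpowers z)

theorem isolated_subgroup (hz : IsIsolatedInvolution z) {H : Subgroup G} (hH : z ∈ H) :
    IsIsolatedInvolution (⟨z, hH⟩ : H) :=
  ⟨by rw [Subgroup.orderOf_mk, hz.1], fun g hg =>
    Subtype.ext (hz.2 g (congrArg Subtype.val hg.eq))⟩

theorem sylow_of_maximal (hz : IsIsolatedInvolution z) {p : ℕ} [Fact p.Prime] (Q : Subgroup G) (hQ : IsPGroup p Q)
    (hzQ : z ∈ Subgroup.normalizer (Q : Set G))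
    (hmax : ∀ R : Subgroup G, IsPGroup p R → z ∈ Subgroup.normalizer (R : Set G) → Q ≤ R → R = Q) :
    ∃ P : Sylow p G, (P : Subgroup G) = Q := by
  set N := Subgroup.normalizer (Q : Set G) with hN
  obtain ⟨S, hS⟩ := exists_invariant_sylow (isolated_subgroup hz (H := N) hzQ) (p := p)
  haveI : (Q.subgroupOf N).Normal := Subgroup.normal_in_normalizer
  have hQS : Q.subgroupOf N ≤ (S : Subgroup N) := by
    have h := (IsPGroup.to_sup_of_normal_left (hQ.of_equiv (Subgroup.subgroupOfEquivOfLe Subgroup.le_normalizer).symm :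
      IsPGroup p (Q.subgroupOf N)) S.2)
    exact le_sup_left.trans (S.3 h le_sup_right).le
  have hQS' : Q ≤ (S : Subgroup N).map N.subtype := fun x hx =>
    ⟨⟨x, Subgroup.le_normalizer hx⟩, hQS (Subgroup.mem_subgroupOf.mpr hx), rfl⟩
  have heq := hmax _ (S.2.map _) (Subgroup.le_normalizer_map N.subtype ⟨⟨z, hzQ⟩, hS, rfl⟩) hQS'
  obtain ⟨P, hP⟩ := hQ.exists_le_sylow
  refine ⟨P, le_antisymm ?_ hP⟩
  by_contra hne
  haveI : Group.IsNilpotent (P : Subgroup G) := P.2.isNilpotent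
  have hlt : Q.subgroupOf (P : Subgroup G) < ⊤ :=
    lt_top_iff_ne_top.mpr fun e => hne (Subgroup.subgroupOf_eq_top.mp e)
  obtain ⟨x, hxN, hxQ⟩ := SetLike.exists_of_lt (Group.normalizerCondition_of_isNilpotent _ hlt)
  rw [← Subgroup.subgroupOf_normalizer_eq hP] at hxN
  set R := (P : Subgroup G) ⊓ N with hR
  obtain ⟨T, hT⟩ := ((P.2.to_le (inf_le_left : R ≤ P)).of_equiv
    (Subgroup.subgroupOfEquivOfLe (inf_le_right : R ≤ N)).symm).exists_le_sylow
  have hlt' : Nat.card Q < Nat.card R := by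
    rcases lt_or_eq_of_le (Subgroup.card_le_of_le (le_inf hP Subgroup.le_normalizer : Q ≤ R)) with h | h
    · exact h
    · exfalso
      refine hxQ (Subgroup.mem_subgroupOf.mpr ?_)
      rw [Subgroup.eq_of_le_of_card_ge (le_inf hP Subgroup.le_normalizer : Q ≤ R) h.ge]
      exact ⟨x.2, hxN⟩
  have h2 : Nat.card R ≤ Nat.card Q := by
    rw [← Nat.card_congr (Subgroup.subgroupOfEquivOfLe (inf_le_right : R ≤ N)).toEquiv]
    refine (Subgroup.card_le_of_le hT).trans ?_
    rw [T.card_eq_multiplicity, ← S.card_eq_multiplicity,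
      ← Subgroup.card_map_of_injective (f := N.subtype) N.subtype_injective, heq]
  omega

theorem pResidual_eq_top_iff (hz : IsIsolatedInvolution z) :
    pResidual 2 G = ⊤ ↔ pResidual 2 ↥(Subgroup.centralizer ({z} : Set G)) = ⊤ := by
  set C := Subgroup.centralizer ({z} : Set G) with hC
  set O := pPrimeCore 2 G with hO
  haveI : O.Normal := Subgroup.sSup_normal _ (fun _ h => h.1)
  have hOodd : (Nat.card O).Coprime 2 := card_pPrimeCore_coprime 2
  constructor
  · intro h
    set N := (pResidual 2 ↥C).map C.subtype with hN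
    have hON : ∀ o ∈ O, o ∈ C → o ∈ N := fun o ho hoC =>
      ⟨⟨o, hoC⟩, Subgroup.subset_closure (by
        show Nat.Coprime _ _
        rw [Subgroup.orderOf_mk]
        exact hOodd.coprime_dvd_left (O.orderOf_dvd_natCard ho)), rfl⟩
    have htop : O ⊔ N = ⊤ := by
      refine top_le_iff.mp (h.ge.trans (PResidual.pResidual_le_of_pow fun x => ?_))
      obtain ⟨o, ho, c, hc, rfl⟩ := exists_factor hz x
      obtain ⟨k, hk⟩ := PResidual.pow_mem_pResidual (p := 2) (⟨c, hc⟩ : C)
      refine ⟨k, ?_⟩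
      have h1 : (o * c) ^ 2 ^ k * (c ^ 2 ^ k)⁻¹ ∈ O := by
        rw [← QuotientGroup.eq_one_iff]
        show QuotientGroup.mk' O _ = 1
        rw [map_mul, map_inv, map_pow, map_mul, show QuotientGroup.mk' O o = 1 from (QuotientGroup.eq_one_iff o).mpr ho,
          one_mul, map_pow, mul_inv_cancel]
      have h2 := Subgroup.mul_mem_sup h1 (show c ^ 2 ^ k ∈ N from ⟨_, hk, rfl⟩)
      rwa [inv_mul_cancel_right] at h2
    refine (Subgroup.eq_top_iff' _).mpr fun c => ?_
    obtain ⟨o, ho, n, hn, e⟩ := Subgroup.mem_sup_of_normal_left.mp (htop.ge (Subgroup.mem_top (c : G)))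
    have hoC : o ∈ C := by
      have := C.mul_mem c.2 (C.inv_mem (Subgroup.map_subtype_le _ hn))
      rwa [← e, mul_inv_cancel_right] at this
    obtain ⟨d, hd, ed⟩ := N.mul_mem (hON o ho hoC) hn
    rw [e] at ed
    rwa [← show d = c from Subtype.ext ed]
  · intro h
    refine (Subgroup.eq_top_iff' _).mpr fun g => ?_
    obtain ⟨o, ho, c, hc, rfl⟩ := exists_factor hz g
    refine Subgroup.mul_mem _ (Subgroup.subset_closure (hOodd.coprime_dvd_left (O.orderOf_dvd_natCard ho))) ?_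
    have h1 : (pResidual 2 ↥C).map C.subtype ≤ pResidual 2 G := by
      rw [Subgroup.map_le_iff_le_comap, pResidual, Subgroup.closure_le]
      intro d hd
      refine Subgroup.subset_closure ?_
      show Nat.Coprime _ _
      rw [show orderOf (C.subtype d) = orderOf d from Subgroup.orderOf_coe d]
      exact hd
    exact h1 ⟨⟨c, hc⟩, h ▸ Subgroup.mem_top _, rfl⟩

theorem sylow_inf_centralizer (hz : IsIsolatedInvolution z) {p : ℕ} [Fact p.Prime] (P : Sylow p G)
    (hzP : z ∈ Subgroup.normalizer ((P : Subgroup G) : Set G)) :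
    ¬ p ∣ ((P : Subgroup G) ⊓ Subgroup.centralizer ({z} : Set G)).relIndex (Subgroup.centralizer ({z} : Set G)) := by
  set C := Subgroup.centralizer ({z} : Set G) with hC
  obtain ⟨T⟩ : Nonempty (Sylow p C) := inferInstance
  set T' := (T : Subgroup C).map C.subtype with hT'
  have hzT : z ∈ Subgroup.normalizer (T' : Set G) := by
    refine Subgroup.mem_normalizer_iff.mpr fun x => ?_
    have hh : ∀ y ∈ C, z * y * z⁻¹ = y := fun y hy => by
      rw [← Subgroup.mem_centralizer_singleton_iff.mp hy, mul_inv_cancel_right]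
    constructor
    · intro hx; rw [hh x (Subgroup.map_subtype_le _ hx)]; exact hx
    · intro hx
      have h2 := hh _ (Subgroup.map_subtype_le _ hx)
      rw [mul_left_inj, mul_right_inj] at h2
      rwa [h2] at hx
  obtain ⟨R, ⟨hR, hzR, hTR⟩, hmax⟩ := (Set.toFinite {R : Subgroup G |
    IsPGroup p R ∧ z ∈ Subgroup.normalizer (R : Set G) ∧ T' ≤ R}).exists_maximal ⟨T', T.2.map _, hzT, le_rfl⟩
  obtain ⟨P', hP'⟩ := sylow_of_maximal hz R hR hzR fun S hS hzS hle =>
    le_antisymm (hmax ⟨hS, hzS, hTR.trans hle⟩ hle) hle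
  obtain ⟨g, hg⟩ := MulAction.exists_smul_eq G P P'
  have e : (P : Subgroup G).map (MulAut.conj g).toMonoidHom = R := by
    rw [← hP', ← hg, Sylow.coe_subgroup_smul]; rfl
  obtain ⟨c, hc, e'⟩ := exists_conj_centralizer hz hzP (g := g) (by rw [e]; exact hzR)
  have h3 : T' ≤ ((P : Subgroup G) ⊓ C).map (MulAut.conj c).toMonoidHom := by
    intro x hx
    have hxR := hTR hx
    rw [← e, ← e'] at hxR
    obtain ⟨y, hy, rfl⟩ := hxR
    refine ⟨y, ⟨hy, ?_⟩, rfl⟩
    have := C.mul_mem (C.mul_mem (C.inv_mem hc) (Subgroup.map_subtype_le _ hx)) hc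
    simpa [mul_assoc] using this
  have h4 : Nat.card T' ≤ Nat.card ↥((P : Subgroup G) ⊓ C) :=
    (Subgroup.card_le_of_le h3).trans (Subgroup.card_map_of_injective (MulAut.conj c).injective).le
  obtain ⟨U, hU⟩ := ((P.2.to_le (inf_le_left : (P : Subgroup G) ⊓ C ≤ P)).of_equiv
    (Subgroup.subgroupOfEquivOfLe (inf_le_right : (P : Subgroup G) ⊓ C ≤ C)).symm).exists_le_sylow
  have h5 : ((P : Subgroup G) ⊓ C).subgroupOf C = (U : Subgroup C) := by
    refine Subgroup.eq_of_le_of_card_ge hU ?_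
    rw [Nat.card_congr (Subgroup.subgroupOfEquivOfLe (inf_le_right : (P : Subgroup G) ⊓ C ≤ C)).toEquiv,
      U.card_eq_multiplicity, ← T.card_eq_multiplicity]
    exact le_of_eq_of_le (Subgroup.card_map_of_injective C.subtype_injective).symm h4
  rw [Subgroup.relIndex, h5]
  exact U.not_dvd_index

theorem relIndex_inverted (hz : IsIsolatedInvolution z) {p : ℕ} [Fact p.Prime] (hp : p ≠ 2) (P : Sylow p G)
    (hzP : z ∈ Subgroup.normalizer ((P : Subgroup G) : Set G)) :
    ((P : Subgroup G) ⊓ Subgroup.centralizer ({z} : Set G)).relIndex (P : Subgroup G) =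
      Nat.card {x : G // x ∈ P ∧ z * x * z⁻¹ = x⁻¹} := by
  set C := Subgroup.centralizer ({z} : Set G) with hC
  have hodd : ∀ x ∈ P, Odd (orderOf x) := fun x hx => by
    obtain ⟨n, hn⟩ := IsPGroup.iff_card.mp P.2
    exact Odd.of_dvd_nat (((Fact.out : p.Prime).odd_of_ne_two hp).pow (n := n))
      (hn ▸ Subgroup.orderOf_dvd_natCard (P : Subgroup G) hx)
  let f : {x : G // x ∈ P ∧ z * x * z⁻¹ = x⁻¹} → (↥(P : Subgroup G) ⧸ ((P : Subgroup G) ⊓ C).subgroupOf P) :=
    fun x => ((⟨x, x.2.1⟩ : (P : Subgroup G)) : _ ⧸ _)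
  rw [Subgroup.relIndex, Subgroup.index_eq_card]
  refine (Nat.card_eq_of_bijective f ⟨?_, ?_⟩).symm
  · intro x y e
    have h := (Subgroup.mem_subgroupOf.mp ((QuotientGroup.eq).mp e)).2
    exact Subtype.ext (inverted_inj hz ⟨hodd _ x.2.1, x.2.2⟩ ⟨hodd _ y.2.1, y.2.2⟩
      ((mem_centralizer_iff_conj.mp (by simpa using h)).symm))
  · intro q
    induction q using QuotientGroup.induction_on with
    | _ x =>
      obtain ⟨k, hk, e, m, hm⟩ := exists_root hz (x : G)
      have hkP : k ∈ P := by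
        rw [hm]
        refine Subgroup.pow_mem (P : Subgroup G) ?_ m
        have h1 : z * (x : G)⁻¹ * z⁻¹ ∈ (P : Subgroup G) :=
          (Subgroup.mem_normalizer_iff.mp hzP _).mp ((P : Subgroup G).inv_mem x.2)
        have h2 := (P : Subgroup G).mul_mem x.2 h1
        rwa [show (x : G) * (z * (x : G)⁻¹ * z⁻¹) = x * z * (x : G)⁻¹ * z⁻¹ by group, inv_eq_self_of_orderOf hz.1] at h2
      refine ⟨⟨k, hkP, hk.2⟩, (QuotientGroup.eq).mpr (Subgroup.mem_subgroupOf.mpr ⟨Subtype.coe_prop _, ?_⟩)⟩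
      show k⁻¹ * (x : G) ∈ C
      exact mem_centralizer_iff_conj.mpr e.symm

/-- Uniqueness of the conjugate of `z` exchanging two conjugates. -/
theorem midpoint_unique (hz : IsIsolatedInvolution z) {g a b w : G}
    (h : a * z * a⁻¹ * (g * z * g⁻¹) * (a * z * a⁻¹)⁻¹ = w) (h' : b * z * b⁻¹ * (g * z * g⁻¹) * (b * z * b⁻¹)⁻¹ = w) :
    a * z * a⁻¹ = b * z * b⁻¹ := by
  by_contra hne
  have key : Commute (b * z * b⁻¹ * (a * z * a⁻¹)) (g * z * g⁻¹) := by
    set e := a * z * a⁻¹
    set e' := b * z * b⁻¹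
    set y := g * z * g⁻¹
    have he' : e' * e' = 1 := by
      show b * z * b⁻¹ * (b * z * b⁻¹) = 1
      rw [show b * z * b⁻¹ * (b * z * b⁻¹) = b * (z * z) * b⁻¹ by group, mul_self_eq_one_of_orderOf hz.1]; group
    show e' * e * y = y * (e' * e)
    calc e' * e * y = e' * (e * y * e⁻¹) * e := by group
      _ = e' * (e' * y * e'⁻¹) * e := by rw [h, ← h']
      _ = (e' * e') * y * (e' * e) := by rw [inv_eq_of_mul_eq_one_right he']; group
      _ = y * (e' * e) := by rw [he', one_mul]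
  refine not_commute_conj (conj hz g) (b * g⁻¹) (a * g⁻¹) ?_ ?_
  · rw [show b * g⁻¹ * (g * z * g⁻¹) * (b * g⁻¹)⁻¹ = b * z * b⁻¹ by group,
      show a * g⁻¹ * (g * z * g⁻¹) * (a * g⁻¹)⁻¹ = a * z * a⁻¹ by group]
    exact fun h => hne h.symm
  · rwa [show b * g⁻¹ * (g * z * g⁻¹) * (b * g⁻¹)⁻¹ = b * z * b⁻¹ by group,
      show a * g⁻¹ * (g * z * g⁻¹) * (a * g⁻¹)⁻¹ = a * z * a⁻¹ by group]

theorem card_eq_mul (hz : IsIsolatedInvolution z) {s : G} (hs : orderOf s = 2) (hsz : Commute s z) :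
    Nat.card G = Nat.card (Subgroup.centralizer ({z} : Set G)) *
      Nat.card {k : G // Odd (orderOf k) ∧ z * k * z⁻¹ = k⁻¹ ∧ Commute k (s * z)} *
      Nat.card {k : G // Odd (orderOf k) ∧ z * k * z⁻¹ = k⁻¹ ∧ Commute k s} := by
  set C := Subgroup.centralizer ({z} : Set G) with hC
  have hz' := inv_eq_self_of_orderOf hz.1
  have hs' := inv_eq_self_of_orderOf hs
  let φ : {k : G // Odd (orderOf k) ∧ z * k * z⁻¹ = k⁻¹ ∧ Commute k (s * z)} ×
      {k : G // Odd (orderOf k) ∧ z * k * z⁻¹ = k⁻¹ ∧ Commute k s} → G ⧸ C := fun p => (((p.2 : G) * p.1 : G) : G ⧸ C)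
  -- `s` carries the image to the midpoint reflection
  have hmid : ∀ (b a : G), z * b * z⁻¹ = b⁻¹ → Commute b (s * z) → Commute a s →
      a * z * a⁻¹ * (a * b * z * (a * b)⁻¹) * (a * z * a⁻¹)⁻¹ = s * (a * b * z * (a * b)⁻¹) * s⁻¹ := by
    intro b a hb hbs has
    have hsb : s * b * s⁻¹ = b⁻¹ := by
      calc s * b * s⁻¹ = s * z * (z⁻¹ * b * z) * (s * z)⁻¹ := by group
        _ = s * z * (z * b * z⁻¹) * (s * z)⁻¹ := by rw [hz']
        _ = s * z * b⁻¹ * (s * z)⁻¹ := by rw [hb]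
        _ = b⁻¹ := by rw [← hbs.inv_left.eq, mul_inv_cancel_right]
    have hsz' : s * z * s⁻¹ = z := by rw [hsz.eq, mul_inv_cancel_right]
    have hsa : s * a * s⁻¹ = a := by rw [← has.eq, mul_inv_cancel_right]
    calc a * z * a⁻¹ * (a * b * z * (a * b)⁻¹) * (a * z * a⁻¹)⁻¹
        = a * ((z * b * z⁻¹) * z * (z * b * z⁻¹)⁻¹) * a⁻¹ := by group
      _ = (s * a * s⁻¹) * ((s * b * s⁻¹) * (s * z * s⁻¹) * (s * b * s⁻¹)⁻¹) * (s * a * s⁻¹)⁻¹ := by
          rw [hb, hsb, hsz', hsa]
      _ = s * (a * b * z * (a * b)⁻¹) * s⁻¹ := by group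
  have hφ : Function.Bijective φ := by
    constructor
    · rintro ⟨⟨b, hb1, hb2, hb3⟩, ⟨a, ha1, ha2, ha3⟩⟩ ⟨⟨b', hb1', hb2', hb3'⟩, ⟨a', ha1', ha2', ha3'⟩⟩ e
      have e' : a * b * z * (a * b)⁻¹ = a' * b' * z * (a' * b')⁻¹ :=
        (mem_centralizer_iff_conj.mp ((QuotientGroup.eq).mp e)).symm
      have h1 := hmid b a hb2 hb3 ha3
      have h2 := hmid b' a' hb2' hb3' ha3'
      rw [← e'] at h2
      have ea := midpoint_unique hz h1 h2
      have ea' : a = a' := inverted_inj hz ⟨ha1, ha2⟩ ⟨ha1', ha2'⟩ ea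
      subst ea'
      have eb : b * z * b⁻¹ = b' * z * b'⁻¹ := by
        have h3 := congrArg (fun t => a⁻¹ * t * a) e'
        simpa [mul_assoc] using h3
      exact Prod.ext (Subtype.ext (inverted_inj hz ⟨hb1, hb2⟩ ⟨hb1', hb2'⟩ eb)) rfl
    · intro q
      induction q using QuotientGroup.induction_on with
      | _ g =>
        set y := g * z * g⁻¹ with hy
        set y' := s * y * s⁻¹ with hy'
        obtain ⟨r, hr, er, -⟩ := exists_root (conj hz g) (s * g * (g⁻¹ : G))
        -- the reflection between `y` and `y'`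
        have hyy : (s * g * g⁻¹) * y * (s * g * g⁻¹)⁻¹ = y' := by rw [hy']; group
        rw [hyy] at er
        set e := r * y * r⁻¹ with he
        obtain ⟨d, hd⟩ : ∃ d : G, d * y * d⁻¹ = y' := ⟨r, er⟩
        have hy2 : orderOf y = 2 := (conj hz g).1
        have hy'2 : orderOf y' = 2 := by rw [← hyy, orderOf_conj, hy2]
        have hodd : Odd (orderOf (y * y')) := by
          have := odd_mul (conj hz g) s
          rwa [← hy, ← hy'] at this
        obtain ⟨d', hd', ed'⟩ := Involutions.exists_conj_eq_of_odd (mul_self_eq_one_of_orderOf hy2)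
          (mul_self_eq_one_of_orderOf hy'2) hodd
        obtain ⟨m, hm⟩ := Involutions.exists_sqrt (u := y' * y) (by
          rw [show y' * y = (y * y')⁻¹ by rw [mul_inv_rev, inv_eq_self_of_orderOf hy2, inv_eq_self_of_orderOf hy'2],
            orderOf_inv]
          exact hodd)
        set v := (y' * y) ^ m with hv
        have hvinv : y * v * y⁻¹ = v⁻¹ := by
          rw [hv, ← conj_pow, show y * (y' * y) * y⁻¹ = (y' * y)⁻¹ by
            rw [show (y' * y)⁻¹ = y⁻¹ * y'⁻¹ from mul_inv_rev _ _, inv_eq_self_of_orderOf hy'2, mul_assoc y (y' * y), mul_inv_cancel_right,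
              inv_eq_self_of_orderOf hy2], inv_pow]
        -- `ε = v y` exchanges `y` and `y'`
        set ε := v * y with hε
        have hεy : ε * y * ε⁻¹ = y' := by
          rw [hε, mul_inv_rev, show v * y * y * (y⁻¹ * v⁻¹) = v * y * v⁻¹ by group, conj_of_inverted hy2 hvinv, hm,
            mul_assoc, mul_self_eq_one_of_orderOf hy2, mul_one]
        -- `ε` is a conjugate of `z`
        obtain ⟨n, hn⟩ := Involutions.exists_sqrt (u := v) ((show Odd (orderOf (y' * y)) by
          rw [show y' * y = (y * y')⁻¹ by rw [mul_inv_rev, inv_eq_self_of_orderOf hy2, inv_eq_self_of_orderOf hy'2],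
            orderOf_inv]
          exact hodd).of_dvd_nat (orderOf_pow_dvd m))
        set b₀ := v ^ n * g with hb₀
        have hεc : b₀ * z * b₀⁻¹ = ε := by
          have h1 : y * v ^ n * y⁻¹ = (v ^ n)⁻¹ := by rw [← conj_pow, hvinv, inv_pow]
          rw [hb₀, show v ^ n * g * z * (v ^ n * g)⁻¹ = v ^ n * y * (v ^ n)⁻¹ by rw [hy]; group,
            conj_of_inverted hy2 h1, hn]
        have hsε : s * ε * s⁻¹ = ε := by
          have h1 : s * b₀ * z * (s * b₀)⁻¹ * (g * z * g⁻¹) * (s * b₀ * z * (s * b₀)⁻¹)⁻¹ = y' := by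
            rw [show s * b₀ * z * (s * b₀)⁻¹ = s * ε * s⁻¹ by rw [← hεc]; group, ← hy]
            have hys : s * y' * s⁻¹ = y := by
              rw [hy', hs', show s * (s * y * s) * s = (s * s) * y * (s * s) by group,
                mul_self_eq_one_of_orderOf hs, one_mul, mul_one]
            have hεy' : ε * y' * ε⁻¹ = y := by
              have hε2 : ε * ε = 1 := by
                rw [← hεc, show b₀ * z * b₀⁻¹ * (b₀ * z * b₀⁻¹) = b₀ * (z * z) * b₀⁻¹ by group,
                  mul_self_eq_one_of_orderOf hz.1]; group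
              rw [← hεy, inv_eq_of_mul_eq_one_right hε2, show ε * (ε * y * ε) * ε = (ε * ε) * y * (ε * ε) by group,
                hε2, one_mul, mul_one]
            calc s * ε * s⁻¹ * y * (s * ε * s⁻¹)⁻¹ = s * (ε * (s⁻¹ * y * s) * ε⁻¹) * s⁻¹ := by group
              _ = s * (ε * y' * ε⁻¹) * s⁻¹ := by rw [hy', hs']
              _ = y' := by rw [hεy', hy']
          have h2 := midpoint_unique hz (g := g) (a := s * b₀) (b := b₀) h1 (by rw [hεc, ← hy]; exact hεy)
          rw [hεc] at h2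
          calc s * ε * s⁻¹ = s * (b₀ * z * b₀⁻¹) * s⁻¹ := by rw [hεc]
            _ = s * b₀ * z * (s * b₀)⁻¹ := by group
            _ = ε := h2
        obtain ⟨a, ha, ea, j, hj⟩ := exists_root hz b₀
        rw [hεc] at ea hj
        have has : Commute a s := by
          rw [hj]
          refine Commute.pow_left ?_ j
          exact (Commute.mul_left (show Commute ε s from (mul_inv_eq_iff_eq_mul.mp hsε).symm) hsz.symm)
        obtain ⟨b, hb, eb, i, hi⟩ := exists_root hz (a⁻¹ * g)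
        set y₃ := a⁻¹ * g * z * (a⁻¹ * g)⁻¹ with hy₃
        have hy₃s : s * y₃ * s⁻¹ = z * y₃ * z⁻¹ := by
          have hsa : s * a⁻¹ * s⁻¹ = a⁻¹ := by rw [← has.inv_left.eq, mul_inv_cancel_right]
          calc s * y₃ * s⁻¹ = (s * a⁻¹ * s⁻¹) * (s * y * s⁻¹) * (s * a⁻¹ * s⁻¹)⁻¹ := by rw [hy₃, hy]; group
            _ = a⁻¹ * (ε * y * ε⁻¹) * a⁻¹⁻¹ := by rw [hsa, ← hy', hεy]
            _ = z * y₃ * z⁻¹ := by rw [← ea, hy₃, hy]; group
        have hbs : Commute b (s * z) := by
          rw [hi]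
          refine Commute.pow_left (Commute.mul_left ?_ ((hsz.symm).mul_right (Commute.refl z))) i
          show y₃ * (s * z) = s * z * y₃
          calc y₃ * (s * z) = s * (s⁻¹ * y₃ * s) * z := by group
            _ = s * (z * y₃ * z⁻¹) * z := by rw [hs', ← hy₃s, hs']
            _ = s * z * y₃ := by group
        refine ⟨(⟨b, hb.1, hb.2, hbs⟩, ⟨a, ha.1, ha.2, has⟩), (QuotientGroup.eq).mpr ?_⟩
        refine mem_centralizer_iff_conj.mpr ?_
        calc g * z * g⁻¹ = a * y₃ * a⁻¹ := by rw [hy₃]; group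
          _ = a * (b * z * b⁻¹) * a⁻¹ := by rw [eb]
          _ = a * b * z * (a * b)⁻¹ := by group
  rw [mul_assoc, ← Nat.card_prod, Nat.card_eq_of_bijective φ hφ, ← Subgroup.index_eq_card,
    Subgroup.card_mul_index]

end CfsgLib.IsolatedInv
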