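import Cfsg.Agent.Lib.TwoFusion.CAGroup
import Mathlib.GroupTheory.GroupAction.Quotient

/-!
Triple transitivity of a CA-2-group on the cosets of the Sylow normalizer.
-/

set_option autoImplicit false
set_option linter.unusedSectionVars false

namespace CfsgLib.CAGroup

open Cfsg Subgroup

variable {G : Type*} [Group G] [Finite G] {T : Sylow 2 G}

local notation "Hn" => Subgroup.normalizer ((T : Subgroup G) : Set G)
local notation "pt" => (QuotientGroup.mk (1 : G) : G ⧸ Subgroup.normalizer ((T : Subgroup G) : Set G))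

theorem smul_pt_iff {x : G} : x • pt = pt ↔ x ∈ Hn := by
  rw [MulAction.Quotient.smul_mk, QuotientGroup.eq, smul_eq_mul, mul_one, mul_one]
  exact inv_mem_iff

theorem card_coset (h : Hyp T) : Nat.card (G ⧸ Hn) = Nat.card T + 1 := by
  obtain ⟨u, hu, huH⟩ := exists_u h
  rw [← Subgroup.index_eq_card]
  exact (centralizer_le_D h hu huH).2

theorem semiregular (h : Hyp T) {t : G} (ht : t ∈ T) (ht1 : t ≠ 1) {x : G ⧸ Hn} (hx : t • x = x) : x = pt := by
  obtain ⟨g, rfl⟩ := QuotientGroup.mk_surjective x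
  rw [MulAction.Quotient.smul_mk, QuotientGroup.eq, smul_eq_mul] at hx
  have hm : g⁻¹ * t * g⁻¹⁻¹ ∈ Hn := by
    have := Subgroup.inv_mem _ hx
    simpa [mul_assoc] using this
  have := StrongEmb.mem_of_conj (se h) (Subgroup.le_normalizer ht) (orderOf_of_mem h ht ht1) hm
  exact QuotientGroup.eq.mpr (by rw [mul_one]; exact this)

theorem T_regular (h : Hyp T) {x y : G ⧸ Hn} (hx : x ≠ pt) (hy : y ≠ pt) :
    ∃! t : G, t ∈ T ∧ t • x = y := by
  classical
  have hne : ∀ t : ↥(T : Subgroup G), (t : G) • x ≠ pt := by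
    intro t e
    refine hx ?_
    rw [← inv_smul_smul (t : G) x, e]
    exact smul_pt_iff.mpr (Subgroup.inv_mem _ (Subgroup.le_normalizer t.2))
  have hinj : ∀ a b : ↥(T : Subgroup G), (a : G) • x = (b : G) • x → a = b := by
    intro a b e
    by_contra hab
    refine hx (semiregular h ((T : Subgroup G).mul_mem ((T : Subgroup G).inv_mem b.2) a.2)
      (fun e' => hab (Subtype.ext (inv_mul_eq_one.mp e').symm)) ?_)
    rw [mul_smul, e, inv_smul_smul]
  have hbij : Function.Bijective (fun t : ↥(T : Subgroup G) => (⟨(t : G) • x, hne t⟩ : {z : G ⧸ Hn // z ≠ pt})) := by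
    refine (Nat.bijective_iff_injective_and_card _).mpr ⟨fun a b e => hinj a b (congrArg Subtype.val e), ?_⟩
    have := Fintype.ofFinite (G ⧸ Hn)
    rw [Nat.card_eq_fintype_card (α := {z : G ⧸ Hn // z ≠ pt}), Fintype.card_subtype_compl,
      Fintype.card_subtype_eq, ← Nat.card_eq_fintype_card, card_coset h]
    rfl
  obtain ⟨t, e⟩ := hbij.2 ⟨y, hy⟩
  have e' : (t : G) • x = y := congrArg Subtype.val e
  refine ⟨t, ⟨t.2, e'⟩, fun s hs => ?_⟩
  have := hinj ⟨s, hs.1⟩ t (by show s • x = _; rw [hs.2, e'])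
  exact congrArg Subtype.val this

variable {u : G}

theorem mem_D_of_fix (hu : orderOf u = 2) {d : G} (h1 : d • pt = pt)
    (h2 : d • (QuotientGroup.mk u : G ⧸ Hn) = QuotientGroup.mk u) : d ∈ Dn T u := by
  rw [MulAction.Quotient.smul_mk, QuotientGroup.eq, smul_eq_mul] at h2
  refine Subgroup.mem_inf.mpr ⟨smul_pt_iff.mp h1, ⟨u⁻¹ * d * u, ?_, by show u * (u⁻¹ * d * u) * u⁻¹ = d; group⟩⟩
  have := Subgroup.inv_mem _ h2
  simpa [mul_assoc] using this

theorem D_fix (h : Hyp T) (hu : orderOf u = 2) (huH : u ∉ Hn) {d : G} (hd : d ∈ Dn T u) :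
    d • pt = pt ∧ d • (QuotientGroup.mk u : G ⧸ Hn) = QuotientGroup.mk u :=
  ⟨(fixed_iff h hu huH 1).mpr (Or.inl rfl) d hd, (fixed_iff h hu huH u).mpr (Or.inr rfl) d hd⟩

theorem D_free (h : Hyp T) (hu : orderOf u = 2) (huH : u ∉ Hn) {d : G} (hd : d ∈ Dn T u) {x : G ⧸ Hn}
    (hfix : d • x = x) (hx1 : x ≠ pt) (hx2 : x ≠ QuotientGroup.mk u) : d = 1 := by
  by_contra hd1
  obtain ⟨g, rfl⟩ := QuotientGroup.mk_surjective x
  refine hx2 (two_fixed h hu huH hd hd1 hfix fun hg => hx1 ?_)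
  exact QuotientGroup.eq.mpr (by rw [mul_one]; exact Subgroup.inv_mem _ hg)

theorem D_transitive (h : Hyp T) (hu : orderOf u = 2) (huH : u ∉ Hn) {x y : G ⧸ Hn}
    (hx1 : x ≠ pt) (hx2 : x ≠ QuotientGroup.mk u) (hy1 : y ≠ pt) (hy2 : y ≠ QuotientGroup.mk u) :
    ∃ d ∈ Dn T u, d • x = y := by
  classical
  have hune : (QuotientGroup.mk u : G ⧸ Hn) ≠ pt := fun e => huH (by
    have := QuotientGroup.eq.mp e
    simpa using this)
  have hmem : ∀ d : ↥(Dn T u), (d : G) • x ≠ pt ∧ (d : G) • x ≠ QuotientGroup.mk u := by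
    intro d
    have hf := D_fix h hu huH ((Dn T u).inv_mem d.2)
    constructor <;> intro e
    · refine hx1 ?_
      rw [← inv_smul_smul (d : G) x, e]
      exact hf.1
    · refine hx2 ?_
      rw [← inv_smul_smul (d : G) x, e]
      exact hf.2
  have hbij : Function.Bijective (fun d : ↥(Dn T u) =>
      (⟨(d : G) • x, hmem d⟩ : {z : G ⧸ Hn // z ≠ pt ∧ z ≠ QuotientGroup.mk u})) := by
    refine (Nat.bijective_iff_injective_and_card _).mpr ⟨fun a b e => ?_, ?_⟩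
    · have e' : (a : G) • x = (b : G) • x := congrArg Subtype.val e
      refine Subtype.ext (inv_mul_eq_one.mp (D_free h hu huH ((Dn T u).mul_mem ((Dn T u).inv_mem a.2) b.2) ?_ hx1 hx2))
      rw [mul_smul, ← e', inv_smul_smul]
    · have := Fintype.ofFinite (G ⧸ Hn)
      have hc : Nat.card {z : G ⧸ Hn // z ≠ pt ∧ z ≠ QuotientGroup.mk u} = Nat.card (G ⧸ Hn) - 2 := by
        rw [Nat.card_eq_fintype_card, Nat.card_eq_fintype_card, Fintype.card_subtype,
          show (Finset.univ.filter fun z : G ⧸ Hn => z ≠ pt ∧ z ≠ QuotientGroup.mk u) =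
            Finset.univ \ {pt, (QuotientGroup.mk u : G ⧸ Hn)} by ext z; simp,
          Finset.card_univ_diff, Finset.card_pair hune.symm]
      have := card_D h hu huH
      rw [hc, card_coset h]
      omega
  obtain ⟨d, e⟩ := hbij.2 ⟨y, hy1, hy2⟩
  exact ⟨d, d.2, congrArg Subtype.val e⟩

theorem normal_form (h : Hyp T) (huH : u ∉ Hn) {x₁ x₂ : G ⧸ Hn} (hne : x₁ ≠ x₂) :
    ∃ g : G, g • x₁ = pt ∧ g • x₂ = QuotientGroup.mk u := by
  obtain ⟨a, ha⟩ := MulAction.exists_smul_eq G x₁ pt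
  have h2 : a • x₂ ≠ pt := fun e => hne (MulAction.injective a (ha.trans e.symm))
  obtain ⟨t, ⟨ht, e⟩, -⟩ := T_regular h h2 (y := QuotientGroup.mk u) (fun e => huH (by
    have := QuotientGroup.eq.mp e
    simpa using this))
  refine ⟨t * a, ?_, by rw [mul_smul, e]⟩
  rw [mul_smul, ha]
  exact smul_pt_iff.mpr (Subgroup.le_normalizer ht)

theorem triply_transitive (h : Hyp T) {x₁ x₂ x₃ y₁ y₂ y₃ : G ⧸ Hn} (a₁ : x₁ ≠ x₂) (a₂ : x₁ ≠ x₃) (a₃ : x₂ ≠ x₃)
    (b₁ : y₁ ≠ y₂) (b₂ : y₁ ≠ y₃) (b₃ : y₂ ≠ y₃) : ∃ g : G, g • x₁ = y₁ ∧ g • x₂ = y₂ ∧ g • x₃ = y₃ := by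
  obtain ⟨u, hu, huH⟩ := exists_u h
  obtain ⟨a, e₁, e₂⟩ := normal_form h huH a₁
  obtain ⟨b, f₁, f₂⟩ := normal_form h huH b₁
  obtain ⟨d, hd, e₃⟩ := D_transitive h hu huH (x := a • x₃) (y := b • y₃)
    (fun e => a₂ (MulAction.injective a (e₁.trans e.symm))) (fun e => a₃ (MulAction.injective a (e₂.trans e.symm)))
    (fun e => b₂ (MulAction.injective b (f₁.trans e.symm))) (fun e => b₃ (MulAction.injective b (f₂.trans e.symm)))
  obtain ⟨g₁, g₂⟩ := D_fix h hu huH hd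
  refine ⟨b⁻¹ * (d * a), ?_, ?_, ?_⟩
  · rw [mul_smul, mul_smul, e₁, g₁, ← f₁, inv_smul_smul]
  · rw [mul_smul, mul_smul, e₂, g₂, ← f₂, inv_smul_smul]
  · rw [mul_smul, mul_smul, e₃, inv_smul_smul]

theorem three_fixed (h : Hyp T) {g : G} {x₁ x₂ x₃ : G ⧸ Hn} (a₁ : x₁ ≠ x₂) (a₂ : x₁ ≠ x₃) (a₃ : x₂ ≠ x₃)
    (h₁ : g • x₁ = x₁) (h₂ : g • x₂ = x₂) (h₃ : g • x₃ = x₃) : g = 1 := by
  obtain ⟨u, hu, huH⟩ := exists_u h
  obtain ⟨a, e₁, e₂⟩ := normal_form h huH a₁
  have hfix : ∀ x : G ⧸ Hn, g • x = x → (a * g * a⁻¹) • (a • x) = a • x := fun x hx => by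
    rw [mul_smul, mul_smul, inv_smul_smul, hx]
  have hd : a * g * a⁻¹ ∈ Dn T u := mem_D_of_fix hu (by have := hfix x₁ h₁; rwa [e₁] at this)
    (by have := hfix x₂ h₂; rwa [e₂] at this)
  exact conj_eq_one_iff.mp (D_free h hu huH hd (hfix x₃ h₃)
    (fun e => a₂ (MulAction.injective a (e₁.trans e.symm))) (fun e => a₃ (MulAction.injective a (e₂.trans e.symm))))

end CfsgLib.CAGroup
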