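import Cfsg.Agent.Lib.TwoFusion.StrongEmb
import Cfsg.Agent.S1226
import Mathlib.GroupTheory.Complement
import Mathlib.GroupTheory.Sylow
import Mathlib.Tactic.Linarith
import Mathlib.Tactic.Ring

/-!
Groups in which every involution centralizer is an elementary abelian 2-group: the permutation
representation on the Sylow 2-subgroups.
-/

set_option autoImplicit false
set_option linter.unusedSectionVars false

namespace CfsgLib.CAGroup

open Cfsg Subgroup
open CfsgLib.Involutions (mul_self_eq_one_of_orderOf inv_eq_self_of_orderOf orderOf_conj)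

variable {G : Type*} [Group G] [Finite G]

/-- The hypotheses. -/
structure Hyp (T : Sylow 2 G) : Prop where
  nc : ¬ IsCyclic (T : Subgroup G)
  nn : ¬ (T : Subgroup G).Normal
  cent : ∀ t : G, orderOf t = 2 → IsMulCommutative (centralizer ({t} : Set G)) ∧
    ∀ c ∈ centralizer ({t} : Set G), c ^ 2 = 1

variable {T : Sylow 2 G}

local notation "Hn" => Subgroup.normalizer ((T : Subgroup G) : Set G)
/-- The two-point stabiliser `H ∩ uHu⁻¹`. -/
abbrev Dn (T : Sylow 2 G) (u : G) : Subgroup G :=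
  Subgroup.normalizer ((T : Subgroup G) : Set G) ⊓
    (Subgroup.normalizer ((T : Subgroup G) : Set G)).map (MulAut.conj u).toMonoidHom

theorem se (h : Hyp T) : IsStronglyEmbedded Hn := by
  exact Cfsg.Agent.S1226.result T h.nc h.nn h.cent

theorem centralizer_eq (h : Hyp T) {t : G} (ht : t ∈ T) (ho : orderOf t = 2) :
    centralizer ({t} : Set G) = (T : Subgroup G) := by
  haveI : Fact (Nat.Prime 2) := ⟨Nat.prime_two⟩
  haveI : Nontrivial ↥(T : Subgroup G) := (Subgroup.nontrivial_iff_ne_bot _).mpr (fun e => by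
    have hm : t ∈ (T : Subgroup G) := ht
    rw [e, Subgroup.mem_bot] at hm
    rw [hm, orderOf_one] at ho
    exact absurd ho (by norm_num))
  haveI : Nontrivial ↥(Subgroup.center ↥(T : Subgroup G)) := T.2.center_nontrivial
  obtain ⟨w, hw⟩ := exists_prime_orderOf_dvd_card' (G := ↥(Subgroup.center ↥(T : Subgroup G))) 2 (by
    obtain ⟨n, hn⟩ := IsPGroup.iff_card.mp (T.2.to_subgroup (Subgroup.center ↥(T : Subgroup G)))
    rw [hn]
    refine dvd_pow_self 2 fun h0 => ?_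
    rw [h0, pow_zero] at hn
    exact absurd hn Finite.one_lt_card.ne')
  set z : G := ((w : ↥(T : Subgroup G)) : G) with hz
  have hzo : orderOf z = 2 := by rw [hz, Subgroup.orderOf_coe, Subgroup.orderOf_coe, hw]
  obtain ⟨hcm, hce⟩ := h.cent z hzo
  have hle : (T : Subgroup G) ≤ centralizer ({z} : Set G) := fun u hu =>
    mem_centralizer_singleton_iff.mpr (congrArg Subtype.val (Subgroup.mem_center_iff.mp w.2 ⟨u, hu⟩))
  refine T.3 (fun u => ⟨1, Subtype.ext (by push_cast; exact (h.cent t ho).2 u u.2)⟩) fun u hu => ?_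
  haveI := hcm
  exact mem_centralizer_singleton_iff.mpr
    (congrArg Subtype.val (IsMulCommutative.is_comm.comm (⟨u, hle hu⟩ : centralizer ({z} : Set G)) ⟨t, hle ht⟩))

theorem exists_inv_mem (h : Hyp T) : ∃ t ∈ T, orderOf t = 2 := by
  have hne : (T : Subgroup G) ≠ ⊥ := fun e => h.nn (by rw [e]; infer_instance)
  obtain ⟨n, hn⟩ := IsPGroup.iff_card.mp T.2
  obtain ⟨x, hx⟩ := exists_prime_orderOf_dvd_card' (G := ↥(T : Subgroup G)) 2 (by
    rw [hn]; exact dvd_pow_self 2 fun h0 => hne (Subgroup.eq_bot_of_card_eq _ (by rw [hn, h0, pow_zero])))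
  exact ⟨x, x.2, by rw [Subgroup.orderOf_coe, hx]⟩

theorem sq_eq_one (h : Hyp T) {x : G} (hx : x ∈ T) : x * x = 1 := by
  obtain ⟨t, ht, ho⟩ := exists_inv_mem h
  have h1 := (h.cent t ho).2 x (by rw [centralizer_eq h ht ho]; exact hx)
  rwa [pow_two] at h1

theorem orderOf_of_mem (h : Hyp T) {x : G} (hx : x ∈ T) (hx1 : x ≠ 1) : orderOf x = 2 :=
  Involutions.orderOf_eq_two_iff'.mpr ⟨sq_eq_one h hx, hx1⟩

theorem comm_of_mem (h : Hyp T) {x y : G} (hx : x ∈ T) (hy : y ∈ T) : x * y = y * x := by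
  obtain ⟨t, ht, ho⟩ := exists_inv_mem h
  haveI := (h.cent t ho).1
  have hm : ∀ z ∈ T, z ∈ centralizer ({t} : Set G) := fun z hz => by rw [centralizer_eq h ht ho]; exact hz
  exact congrArg Subtype.val (IsMulCommutative.is_comm.comm (⟨x, hm x hx⟩ : centralizer ({t} : Set G)) ⟨y, hm y hy⟩)

theorem inv_mem_T (h : Hyp T) {x : G} (hx : x ∈ Hn) (ho : orderOf x = 2) : x ∈ T := by
  haveI : Fact (Nat.Prime 2) := ⟨Nat.prime_two⟩
  have h2 : IsPGroup 2 ↥(Subgroup.zpowers x ⊔ (T : Subgroup G)) :=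
    (IsPGroup.of_card (n := 1) (by rw [Nat.card_zpowers, ho, pow_one]) : IsPGroup 2 ↥(Subgroup.zpowers x)).to_sup_of_normal_right'
      T.2 (Subgroup.zpowers_le.mpr hx)
  exact le_sup_left.trans (T.3 h2 le_sup_right).le (Subgroup.mem_zpowers x)

theorem card_T (h : Hyp T) : 4 ≤ Nat.card T := by
  haveI : Fact (Nat.Prime 2) := ⟨Nat.prime_two⟩
  obtain ⟨n, hn⟩ := IsPGroup.iff_card.mp T.2
  match n with
  | 0 =>
    refine absurd ?_ h.nn
    rw [Subgroup.eq_bot_of_card_eq (T : Subgroup G) (by simpa using hn)]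
    infer_instance
  | 1 => exact absurd (isCyclic_of_prime_card (by simpa using hn)) h.nc
  | k + 2 =>
    rw [hn, pow_succ, pow_succ]
    have := Nat.one_le_two_pow (n := k)
    omega

theorem card_involutions (h : Hyp T) : Nat.card {t : G // orderOf t = 2 ∧ t ∈ Hn} + 1 = Nat.card T := by
  classical
  rw [← Finite.card_option]
  refine Nat.card_congr ⟨fun o => o.elim ⟨1, one_mem _⟩ fun t => ⟨t, inv_mem_T h t.2.2 t.2.1⟩,
    fun x => if hx : (x : G) = 1 then none else some ⟨x, orderOf_of_mem h x.2 hx, Subgroup.le_normalizer x.2⟩, ?_, ?_⟩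
  · rintro (_ | t)
    · simp
    · have : (t : G) ≠ 1 := fun e => by have := t.2.1; rw [e, orderOf_one] at this; omega
      simp [this]
  · intro x
    by_cases hx : (x : G) = 1
    · simp only [hx, dite_true, Option.elim]; exact Subtype.ext hx.symm
    · simp [hx]

theorem eq_one_of_odd (h : Hyp T) {t c : G} (ho : orderOf t = 2) (hc : c * t = t * c) (hodd : Odd (orderOf c)) :
    c = 1 := by
  have h2 := orderOf_dvd_of_pow_eq_one ((h.cent t ho).2 c (mem_centralizer_singleton_iff.mpr hc))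
  rcases (Nat.dvd_prime Nat.prime_two).mp h2 with e | e
  · exact orderOf_eq_one_iff.mp e
  · rw [e] at hodd; exact absurd hodd (by decide)

variable {u : G}

theorem D_odd (h : Hyp T) (huH : u ∉ Hn) : Odd (Nat.card ↥(Dn T u)) := (se h).2.2 u huH

theorem D_orderOf_odd (h : Hyp T) (huH : u ∉ Hn) {d : G} (hd : d ∈ Dn T u) : Odd (orderOf d) :=
  (D_odd h huH).of_dvd_nat (Subgroup.orderOf_dvd_natCard (Dn T u) hd)

theorem card_D (h : Hyp T) (hu : orderOf u = 2) (huH : u ∉ Hn) : Nat.card ↥(Dn T u) + 1 = Nat.card T := by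
  obtain ⟨s, hs, hso⟩ := exists_inv_mem h
  rw [← card_involutions h]
  congr 1
  refine Nat.card_eq_of_bijective (fun d => ⟨(d : G) * s * (d : G)⁻¹, by rw [orderOf_conj, hso],
    Subgroup.mul_mem _ (Subgroup.mul_mem _ d.2.1 (Subgroup.le_normalizer hs)) (Subgroup.inv_mem _ d.2.1)⟩) ⟨?_, ?_⟩
  · intro a b e
    have e' : (a : G) * s * (a : G)⁻¹ = b * s * (b : G)⁻¹ := congrArg Subtype.val e
    refine Subtype.ext (inv_mul_eq_one.mp (eq_one_of_odd h hso ?_ (D_orderOf_odd h huH ((Dn T u).mul_mem ((Dn T u).inv_mem a.2) b.2))))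
    calc (a : G)⁻¹ * b * s = (a : G)⁻¹ * (b * s * (b : G)⁻¹) * b := by group
      _ = (a : G)⁻¹ * (a * s * (a : G)⁻¹) * b := by rw [e']
      _ = _ := by group
  · rintro ⟨t, ht, htH⟩
    obtain ⟨d, hd, e⟩ := StrongEmb.exists_conj_in_inter (se h) hu huH (Subgroup.le_normalizer hs) hso htH ht
    exact ⟨⟨d, hd⟩, Subtype.ext e⟩

theorem inverts (h : Hyp T) (hu : orderOf u = 2) (huH : u ∉ Hn) : ∀ d ∈ Dn T u, u * d * u⁻¹ = d⁻¹ := by
  have hu' := inv_eq_self_of_orderOf hu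
  have hu2 := mul_self_eq_one_of_orderOf hu
  have hk := StrongEmb.card_coset_involutions (se h) (u : G ⧸ Hn)
  have key : ∀ i : {i : G // orderOf i = 2 ∧ (i : G ⧸ Hn) = (u : G ⧸ Hn)},
      u * (i : G) ∈ Dn T u ∧ u * (u * (i : G)) * u⁻¹ = (u * (i : G))⁻¹ := by
    intro i
    have hinv : u * (u * (i : G)) * u⁻¹ = (u * (i : G))⁻¹ := by
      rw [mul_inv_rev, inv_eq_self_of_orderOf i.2.1, hu', ← mul_assoc u u, hu2, one_mul]
    have hH : u * (i : G) ∈ Hn := by
      have := QuotientGroup.eq.mp i.2.2.symm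
      rwa [hu'] at this
    refine ⟨Subgroup.mem_inf.mpr ⟨hH, ⟨(u * (i : G))⁻¹, Subgroup.inv_mem _ hH, ?_⟩⟩, hinv⟩
    show u * (u * (i : G))⁻¹ * u⁻¹ = _
    rw [← hinv, hu', show u * (u * (u * (i : G)) * u) * u = (u * u) * (u * (i : G)) * (u * u) by group, hu2, one_mul,
      mul_one]
  have hsurj : Function.Bijective (fun i : {i : G // orderOf i = 2 ∧ (i : G ⧸ Hn) = (u : G ⧸ Hn)} =>
      (⟨u * (i : G), (key i).1⟩ : ↥(Dn T u))) := by
    refine (Nat.bijective_iff_injective_and_card _).mpr ⟨fun a b e => Subtype.ext (mul_left_cancel (congrArg Subtype.val e)), ?_⟩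
    have := card_D h hu huH
    have := card_involutions h
    omega
  intro d hd
  obtain ⟨i, e⟩ := hsurj.2 ⟨d, hd⟩
  have e' : u * (i : G) = d := congrArg Subtype.val e
  rw [← e']
  exact (key i).2

theorem D_comm (h : Hyp T) (hu : orderOf u = 2) (huH : u ∉ Hn) {a b : G} (ha : a ∈ Dn T u) (hb : b ∈ Dn T u) :
    a * b = b * a := by
  have e := inverts h hu huH (a⁻¹ * b⁻¹) ((Dn T u).mul_mem ((Dn T u).inv_mem ha) ((Dn T u).inv_mem hb))
  rw [mul_inv_rev, inv_inv, inv_inv, show u * (a⁻¹ * b⁻¹) * u⁻¹ = (u * a⁻¹ * u⁻¹) * (u * b⁻¹ * u⁻¹) by group,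
    inverts h hu huH _ ((Dn T u).inv_mem ha), inverts h hu huH _ ((Dn T u).inv_mem hb), inv_inv, inv_inv] at e
  exact e

theorem card_H (h : Hyp T) : Nat.card ↥Hn = Nat.card T * (Nat.card T - 1) := by
  classical
  obtain ⟨s, hs, hso⟩ := exists_inv_mem h
  obtain ⟨g, hg⟩ : ∃ g : G, g ∉ Hn := by
    by_contra hh
    push Not at hh
    exact (se h).1 ((Subgroup.eq_top_iff' _).mpr hh)
  have hsH : s ∈ Hn := Subgroup.le_normalizer hs
  have hu : g * s * g⁻¹ ∉ Hn := fun hm => hg (StrongEmb.mem_of_conj (se h) hsH hso hm)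
  have hcard : Nat.card (↥Hn ⧸ ((T : Subgroup G).subgroupOf Hn)) = Nat.card {t : G // orderOf t = 2 ∧ t ∈ Hn} := by
    refine Nat.card_eq_of_bijective (fun q => ⟨(q.out : G) * s * (q.out : G)⁻¹, by rw [orderOf_conj, hso],
      Subgroup.mul_mem _ (Subgroup.mul_mem _ q.out.2 hsH) (Subgroup.inv_mem _ q.out.2)⟩) ⟨?_, ?_⟩
    · intro a b e
      have e' : (a.out : G) * s * (a.out : G)⁻¹ = b.out * s * (b.out : G)⁻¹ := congrArg Subtype.val e
      have hm : (a.out : G)⁻¹ * b.out ∈ centralizer ({s} : Set G) := by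
        rw [mem_centralizer_singleton_iff]
        calc (a.out : G)⁻¹ * b.out * s = (a.out : G)⁻¹ * (b.out * s * (b.out : G)⁻¹) * b.out := by group
          _ = (a.out : G)⁻¹ * (a.out * s * (a.out : G)⁻¹) * b.out := by rw [e']
          _ = _ := by group
      rw [← QuotientGroup.out_eq' a, ← QuotientGroup.out_eq' b, QuotientGroup.eq, Subgroup.mem_subgroupOf]
      rw [centralizer_eq h hs hso] at hm
      exact hm
    · rintro ⟨t, ht, htH⟩
      obtain ⟨d, hd, e⟩ := StrongEmb.exists_conj_in_inter (se h) (by rw [orderOf_conj, hso]) hu hsH hso htH ht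
      refine ⟨QuotientGroup.mk (⟨d, hd.1⟩ : ↥Hn), Subtype.ext ?_⟩
      obtain ⟨c, hc⟩ := QuotientGroup.mk_out_eq_mul ((T : Subgroup G).subgroupOf Hn) (⟨d, hd.1⟩ : ↥Hn)
      show (((QuotientGroup.mk (⟨d, hd.1⟩ : ↥Hn) : ↥Hn ⧸ (T : Subgroup G).subgroupOf Hn)).out : G) * s * _ = t
      rw [hc]
      push_cast
      have hcs : ((c : ↥Hn) : G) * s * ((c : ↥Hn) : G)⁻¹ = s := by
        rw [comm_of_mem h (Subgroup.mem_subgroupOf.mp c.2) hs, mul_inv_cancel_right]
      calc d * ((c : ↥Hn) : G) * s * (d * ((c : ↥Hn) : G))⁻¹ = d * (((c : ↥Hn) : G) * s * ((c : ↥Hn) : G)⁻¹) * d⁻¹ := by group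
        _ = t := by rw [hcs, e]
  have e := ((T : Subgroup G).subgroupOf Hn).card_mul_index
  rw [Subgroup.index_eq_card, hcard, Nat.card_congr (Subgroup.subgroupOfEquivOfLe Subgroup.le_normalizer).toEquiv] at e
  rw [← e]
  have := card_involutions h
  congr 1
  omega

theorem disjoint_T_D (h : Hyp T) (huH : u ∉ Hn) {x : G} (hx : x ∈ T) (hxd : x ∈ Dn T u) : x = 1 := by
  by_contra hx1
  have h2 := D_orderOf_odd h huH hxd
  rw [orderOf_of_mem h hx hx1] at h2
  exact absurd h2 (by decide)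

theorem isComplement (h : Hyp T) (hu : orderOf u = 2) (huH : u ∉ Hn) :
    Subgroup.IsComplement' ((Dn T u).subgroupOf Hn) ((T : Subgroup G).subgroupOf Hn) := by
  refine Subgroup.isComplement'_of_disjoint_and_mul_eq_univ ?_ ?_
  · rw [Subgroup.disjoint_def]
    intro x hx hxT
    exact Subtype.ext (disjoint_T_D h huH (Subgroup.mem_subgroupOf.mp hxT) (Subgroup.mem_subgroupOf.mp hx))
  · haveI : ((T : Subgroup G).subgroupOf Hn).Normal := Subgroup.normal_in_normalizer
    have hinj : Function.Injective (fun p : ((Dn T u).subgroupOf Hn) × ((T : Subgroup G).subgroupOf Hn) => (p.1 : ↥Hn) * p.2) := by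
      rintro ⟨a, b⟩ ⟨a', b'⟩ e
      have e' : (a : ↥Hn) * b = a' * b' := e
      have e2 : (a' : ↥Hn)⁻¹ * a = b' * (b : ↥Hn)⁻¹ := by
        calc (a' : ↥Hn)⁻¹ * a = (a' : ↥Hn)⁻¹ * ((a : ↥Hn) * b) * (b : ↥Hn)⁻¹ := by group
          _ = _ := by rw [e']; group
      have h1 : ((a' : ↥Hn)⁻¹ * a : G) = 1 := by
        refine disjoint_T_D h huH ?_ (Subgroup.mem_subgroupOf.mp (((Dn T u).subgroupOf Hn).mul_mem (Subgroup.inv_mem _ a'.2) a.2))
        have := Subgroup.mem_subgroupOf.mp (((T : Subgroup G).subgroupOf Hn).mul_mem b'.2 (Subgroup.inv_mem _ b.2))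
        rwa [← e2] at this
      have h2 : a' = a := Subtype.ext (Subtype.ext (inv_mul_eq_one.mp h1))
      subst h2
      exact Prod.ext rfl (Subtype.ext (mul_left_cancel e'))
    have hsurj := ((Nat.bijective_iff_injective_and_card _).mpr ⟨hinj, by
      rw [Nat.card_prod, Nat.card_congr (Subgroup.subgroupOfEquivOfLe (inf_le_left : (Dn T u) ≤ Hn)).toEquiv,
        Nat.card_congr (Subgroup.subgroupOfEquivOfLe (Subgroup.le_normalizer : (T : Subgroup G) ≤ Hn)).toEquiv,
        card_H h, mul_comm (Nat.card ↥(T : Subgroup G))]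
      congr 1
      show Nat.card ↥(Dn T u) = _
      have := card_D h hu huH
      omega⟩).2
    refine Set.eq_univ_of_forall fun x => ?_
    obtain ⟨⟨a, b⟩, e⟩ := hsurj x
    exact e ▸ Set.mul_mem_mul a.2 b.2

theorem inv_not_inverting (h : Hyp T) {t d : G} (ht : t ∈ Hn) (ho : orderOf t = 2) (hd : d ∈ Hn) (hodd : Odd (orderOf d))
    (e : t * d * t⁻¹ = d⁻¹) : d = 1 := by
  have htT := inv_mem_T h ht ho
  have hm : t * (d * t⁻¹ * d⁻¹) ∈ (T : Subgroup G) :=
    (T : Subgroup G).mul_mem htT ((Subgroup.mem_normalizer_iff.mp hd _).mp ((T : Subgroup G).inv_mem htT))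
  rw [show t * (d * t⁻¹ * d⁻¹) = t * d * t⁻¹ * d⁻¹ by group, e] at hm
  have h2 := sq_eq_one h hm
  have h3 : orderOf d ∣ 4 := orderOf_dvd_of_pow_eq_one (by
    rw [show (4 : ℕ) = 2 * 2 from rfl, pow_mul, pow_two, pow_two, ← inv_eq_one, mul_inv_rev, mul_inv_rev, ← h2])
  have h4 : orderOf d = 1 := Nat.eq_one_of_dvd_coprimes (Nat.Coprime.pow_right 2 (Nat.coprime_two_right.mpr hodd)) dvd_rfl h3
  exact orderOf_eq_one_iff.mp h4

theorem centralizer_odd (h : Hyp T) (hu : orderOf u = 2) (huH : u ∉ Hn) {d : G} (hd : d ∈ Dn T u) (hd1 : d ≠ 1) :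
    ∀ k, k * d = d * k → Odd (orderOf k) ∧ u * k * u⁻¹ = k⁻¹ := by
  haveI : Fact (Nat.Prime 2) := ⟨Nat.prime_two⟩
  set C := centralizer ({d} : Set G) with hC
  have hodd : Odd (Nat.card C) := by
    rw [← Nat.not_even_iff_odd]
    intro he
    obtain ⟨t, ht⟩ := exists_prime_orderOf_dvd_card' (G := ↥C) 2 he.two_dvd
    exact hd1 (eq_one_of_odd h (t := (t : G)) (by rw [Subgroup.orderOf_coe, ht])
      (mem_centralizer_singleton_iff.mp t.2).symm (D_orderOf_odd h huH hd))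
  have hu' := inv_eq_self_of_orderOf hu
  have hnorm : ∀ k ∈ C, u * k * u⁻¹ ∈ C := fun k hk => by
    have e := inverts h hu huH d hd
    have hd' : d = u * d⁻¹ * u⁻¹ := by
      rw [← e, hu', show u * (u * d * u) * u = (u * u) * d * (u * u) by group, mul_self_eq_one_of_orderOf hu, one_mul, mul_one]
    refine mem_centralizer_singleton_iff.mpr ?_
    rw [hd']
    have hk' : Commute k d⁻¹ := (show Commute k d from mem_centralizer_singleton_iff.mp hk).inv_right
    calc u * k * u⁻¹ * (u * d⁻¹ * u⁻¹) = u * (k * d⁻¹) * u⁻¹ := by group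
      _ = u * (d⁻¹ * k) * u⁻¹ := by rw [hk'.eq]
      _ = _ := by group
  intro k hk
  have hkC : k ∈ C := mem_centralizer_singleton_iff.mpr hk
  let f : C → C := fun x => ⟨(x : G)⁻¹ * (u * x * u⁻¹), C.mul_mem (C.inv_mem x.2) (hnorm x x.2)⟩
  have hinj : Function.Injective f := by
    intro x y e
    have e' : (x : G)⁻¹ * (u * x * u⁻¹) = (y : G)⁻¹ * (u * y * u⁻¹) := congrArg Subtype.val e
    refine Subtype.ext (mul_inv_eq_one.mp (eq_one_of_odd h hu ?_ (hodd.of_dvd_nat (Subgroup.orderOf_dvd_natCard C (C.mul_mem y.2 (C.inv_mem x.2)))))).symm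
    calc (y : G) * (x : G)⁻¹ * u = y * ((x : G)⁻¹ * (u * x * u⁻¹)) * (u * (x : G)⁻¹) := by group
      _ = y * ((y : G)⁻¹ * (u * y * u⁻¹)) * (u * (x : G)⁻¹) := by rw [e']
      _ = _ := by group
  obtain ⟨x, hx⟩ := Finite.injective_iff_surjective.mp hinj ⟨k, hkC⟩
  have hx' : (x : G)⁻¹ * (u * x * u⁻¹) = k := congrArg Subtype.val hx
  refine ⟨hodd.of_dvd_nat (Subgroup.orderOf_dvd_natCard C hkC), ?_⟩
  rw [← hx', hu', mul_inv_rev, inv_inv, mul_inv_rev, mul_inv_rev, hu',
    show u * ((x : G)⁻¹ * (u * x * u)) * u = u * (x : G)⁻¹ * u * x * (u * u) by group,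
    mul_self_eq_one_of_orderOf hu, mul_one]
  group

theorem centralizer_comm (h : Hyp T) (hu : orderOf u = 2) (huH : u ∉ Hn) {d a b : G} (hd : d ∈ Dn T u) (hd1 : d ≠ 1)
    (ha : a * d = d * a) (hb : b * d = d * b) : a * b = b * a := by
  have hab : (a⁻¹ * b⁻¹) * d = d * (a⁻¹ * b⁻¹) :=
    ((show Commute a d from ha).inv_left.mul_left (show Commute b d from hb).inv_left).eq
  have e := (centralizer_odd h hu huH hd hd1 _ hab).2
  rw [mul_inv_rev, inv_inv, inv_inv, show u * (a⁻¹ * b⁻¹) * u⁻¹ = (u * a⁻¹ * u⁻¹) * (u * b⁻¹ * u⁻¹) by group,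
    (centralizer_odd h hu huH hd hd1 _ (show Commute a d from ha).inv_left.eq).2,
    (centralizer_odd h hu huH hd hd1 _ (show Commute b d from hb).inv_left.eq).2, inv_inv, inv_inv] at e
  exact e

theorem fpf (h : Hyp T) {t d : G} (ht : t ∈ T) (hc : t * d = d * t) (hodd : Odd (orderOf d)) (hd1 : d ≠ 1) : t = 1 := by
  by_contra ht1
  exact hd1 (eq_one_of_odd h (orderOf_of_mem h ht ht1) hc.symm hodd)

theorem decomp (h : Hyp T) (hu : orderOf u = 2) (huH : u ∉ Hn) {x : G} (hx : x ∈ Hn) :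
    ∃ d ∈ Dn T u, ∃ t ∈ T, x = d * t := by
  obtain ⟨⟨a, b⟩, e⟩ := (isComplement h hu huH).2 (⟨x, hx⟩ : ↥Hn)
  exact ⟨_, Subgroup.mem_subgroupOf.mp a.2, _, Subgroup.mem_subgroupOf.mp b.2, (congrArg Subtype.val e).symm⟩

theorem centralizer_inf (h : Hyp T) (hu : orderOf u = 2) (huH : u ∉ Hn) {d k : G} (hd : d ∈ Dn T u) (hd1 : d ≠ 1)
    (hk : k * d = d * k) (hkH : k ∈ Hn) : k ∈ Dn T u := by
  obtain ⟨a, ha, t, ht, rfl⟩ := decomp h hu huH hkH
  have h1 : t * d = d * t := by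
    have e := D_comm h hu huH ha hd
    calc t * d = a⁻¹ * (a * t * d) := by group
      _ = a⁻¹ * (d * (a * t)) := by rw [hk]
      _ = a⁻¹ * (d * a) * t := by group
      _ = a⁻¹ * (a * d) * t := by rw [e]
      _ = d * t := by group
  rw [fpf h ht h1 (D_orderOf_odd h huH hd) hd1, mul_one]
  exact ha

/-- The centralizer of any nontrivial element of `D` is the centralizer of `D`. -/
theorem centralizer_eq_centralizer (h : Hyp T) (hu : orderOf u = 2) (huH : u ∉ Hn) {d : G} (hd : d ∈ Dn T u)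
    (hd1 : d ≠ 1) : centralizer ({d} : Set G) = centralizer ((Dn T u : Subgroup G) : Set G) := by
  refine le_antisymm (fun k hk e he => ?_) (centralizer_le (Set.singleton_subset_iff.mpr hd))
  exact centralizer_comm h hu huH hd hd1 (D_comm h hu huH he hd) (mem_centralizer_singleton_iff.mp hk)

theorem exists_D_ne_one (h : Hyp T) (hu : orderOf u = 2) (huH : u ∉ Hn) : ∃ d ∈ Dn T u, d ≠ 1 := by
  by_contra hh
  push Not at hh
  have h1 : Nat.card ↥(Dn T u) = 1 := by rw [(Subgroup.eq_bot_iff_forall _).mpr hh, Subgroup.card_bot]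
  have := card_D h hu huH
  have := card_T h
  omega

theorem exists_u (h : Hyp T) : ∃ u : G, orderOf u = 2 ∧ u ∉ Hn := by
  obtain ⟨s, hs, hso⟩ := exists_inv_mem h
  obtain ⟨g, hg⟩ : ∃ g : G, g ∉ Hn := by
    by_contra hh
    push Not at hh
    exact (se h).1 ((Subgroup.eq_top_iff' _).mpr hh)
  exact ⟨g * s * g⁻¹, by rw [orderOf_conj, hso], fun hm => hg (StrongEmb.mem_of_conj (se h) (Subgroup.le_normalizer hs) hso hm)⟩

theorem card_outside (h : Hyp T) :
    Nat.card {i : G // orderOf i = 2 ∧ i ∉ Hn} + (Nat.card T - 1) = Subgroup.index Hn * (Nat.card T - 1) := by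
  classical
  have := Fintype.ofFinite (G ⧸ Hn)
  have hk : Nat.card {t : G // orderOf t = 2 ∧ t ∈ Hn} = Nat.card T - 1 := by
    have := card_involutions h
    omega
  have h1 : Nat.card {i : G // orderOf i = 2} = Subgroup.index Hn * (Nat.card T - 1) := by
    rw [← hk, Subgroup.index_eq_card, Nat.card_eq_fintype_card (α := G ⧸ Hn), ← smul_eq_mul, ← Finset.card_univ,
      ← Finset.sum_const]
    rw [← Finset.sum_congr rfl (fun y _ => StrongEmb.card_coset_involutions (se h) y), ← Nat.card_sigma]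
    exact Nat.card_congr ⟨fun i => ⟨(i : G), i, i.2, rfl⟩, fun p => ⟨p.2, p.2.2.1⟩, fun i => rfl,
      fun ⟨z, i, h1, h2⟩ => by subst h2; rfl⟩
  rw [← h1, ← hk, ← Nat.card_sum]
  refine (Nat.card_congr ((Equiv.sumCompl (fun i : {i : G // orderOf i = 2} => (i : G) ∉ Hn)).symm.trans (Equiv.sumCongr
    ⟨fun i => ⟨i.1.1, i.1.2, i.2⟩, fun i => ⟨⟨i.1, i.2.1⟩, i.2.2⟩, fun _ => rfl, fun _ => rfl⟩
    ⟨fun i => ⟨i.1.1, i.1.2, not_not.mp i.2⟩, fun i => ⟨⟨i.1, i.2.1⟩, not_not.mpr i.2.2⟩, fun _ => rfl, fun _ => rfl⟩))).symm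

theorem centralizer_le_D (h : Hyp T) (hu : orderOf u = 2) (huH : u ∉ Hn) :
    centralizer ((Dn T u : Subgroup G) : Set G) ≤ Dn T u ∧ Subgroup.index Hn = Nat.card T + 1 := by
  classical
  set D := Dn T u with hD
  set K := centralizer (D : Set G) with hK
  obtain ⟨d₁, hd₁, hd₁1⟩ := exists_D_ne_one h hu huH
  have hKprop : ∀ k ∈ K, Odd (orderOf k) ∧ u * k * u⁻¹ = k⁻¹ := fun k hk =>
    centralizer_odd h hu huH hd₁ hd₁1 k (hk d₁ hd₁).symm
  have hKinv : ∀ k ∈ K, orderOf (u * k) = 2 ∧ u * k ∉ Hn := by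
    intro k hk
    have h2 : u * k * (u * k) = 1 := by
      have e := (hKprop k hk).2
      rw [inv_eq_self_of_orderOf hu] at e
      rw [← mul_assoc, e, inv_mul_cancel]
    have hne : u * k ≠ 1 := fun e => by
      have h3 := (hKprop k hk).1
      rw [eq_inv_of_mul_eq_one_right e, orderOf_inv, hu] at h3
      exact absurd h3 (by decide)
    have ho : orderOf (u * k) = 2 := Involutions.orderOf_eq_two_iff'.mpr ⟨h2, hne⟩
    refine ⟨ho, fun hm => hd₁1 (inv_not_inverting h hm ho hd₁.1 (D_orderOf_odd h huH hd₁) ?_)⟩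
    rw [show u * k * d₁ * (u * k)⁻¹ = u * (k * d₁ * k⁻¹) * u⁻¹ by group, ← hk d₁ hd₁, mul_inv_cancel_right]
    exact inverts h hu huH d₁ hd₁
  let A := {p : G × G // (orderOf p.1 = 2 ∧ p.1 ∉ Hn) ∧ p.2 ∈ Dn T p.1 ∧ p.2 ≠ 1}
  let F : ↥(T : Subgroup G) × {d : ↥D // d ≠ 1} × ↥K → A := fun q =>
    ⟨((q.1 : G) * (u * (q.2.2 : G)) * (q.1 : G)⁻¹, (q.1 : G) * ((q.2.1.1 : ↥D) : G) * (q.1 : G)⁻¹), by
      obtain ⟨t, ⟨⟨d, hd⟩, hd1⟩, ⟨k, hk⟩⟩ := q
      obtain ⟨ho, hn⟩ := hKinv k hk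
      have htH : (t : G) ∈ Hn := Subgroup.le_normalizer t.2
      have hinv : u * k * d⁻¹ * (u * k)⁻¹ = d := by
        rw [show u * k * d⁻¹ * (u * k)⁻¹ = u * (k * d⁻¹ * k⁻¹) * u⁻¹ by group, ← hk d⁻¹ (D.inv_mem hd),
          mul_inv_cancel_right, inverts h hu huH _ (D.inv_mem hd), inv_inv]
      refine ⟨⟨by rw [orderOf_conj, ho], fun hm => hn ?_⟩, Subgroup.mem_inf.mpr
        ⟨Subgroup.mul_mem _ (Subgroup.mul_mem _ htH hd.1) (Subgroup.inv_mem _ htH),
          ⟨(t : G) * d⁻¹ * (t : G)⁻¹, Subgroup.mul_mem _ (Subgroup.mul_mem _ htH (Subgroup.inv_mem _ hd.1)) (Subgroup.inv_mem _ htH), ?_⟩⟩,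
        fun e => hd1 (Subtype.ext (conj_eq_one_iff.mp e))⟩
      · have := Subgroup.mul_mem _ (Subgroup.mul_mem _ (Subgroup.inv_mem _ htH) hm) htH
        simpa [mul_assoc] using this
      · show (t : G) * (u * k) * (t : G)⁻¹ * ((t : G) * d⁻¹ * (t : G)⁻¹) * ((t : G) * (u * k) * (t : G)⁻¹)⁻¹ = (t : G) * d * (t : G)⁻¹
        rw [show (t : G) * (u * k) * (t : G)⁻¹ * ((t : G) * d⁻¹ * (t : G)⁻¹) * ((t : G) * (u * k) * (t : G)⁻¹)⁻¹ =
          (t : G) * (u * k * d⁻¹ * (u * k)⁻¹) * (t : G)⁻¹ by group, hinv]⟩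
  have hF : Function.Bijective F := by
    constructor
    · rintro ⟨t, ⟨⟨d, hd⟩, hd1⟩, ⟨k, hk⟩⟩ ⟨t', ⟨⟨d', hd'⟩, hd1'⟩, ⟨k', hk'⟩⟩ e
      have e1 : (t : G) * (u * k) * (t : G)⁻¹ = t' * (u * k') * (t' : G)⁻¹ := congrArg (fun p : A => p.1.1) e
      have e2 : (t : G) * d * (t : G)⁻¹ = t' * d' * (t' : G)⁻¹ := congrArg (fun p : A => p.1.2) e
      set s := (t' : G)⁻¹ * t with hs
      have hsT : s ∈ (T : Subgroup G) := (T : Subgroup G).mul_mem ((T : Subgroup G).inv_mem t'.2) t.2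
      have e3 : s * d * s⁻¹ = d' := by
        rw [show s * d * s⁻¹ = (t' : G)⁻¹ * ((t : G) * d * (t : G)⁻¹) * t' by rw [hs]; group, e2]; group
      have hdd : d' * d⁻¹ ∈ (T : Subgroup G) := by
        rw [← e3, show s * d * s⁻¹ * d⁻¹ = s * (d * s⁻¹ * d⁻¹) by group]
        exact (T : Subgroup G).mul_mem hsT ((Subgroup.mem_normalizer_iff.mp hd.1 _).mp ((T : Subgroup G).inv_mem hsT))
      have hde : d' = d := mul_inv_eq_one.mp (disjoint_T_D h huH hdd (D.mul_mem hd' (D.inv_mem hd)))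
      subst hde
      have hs1 : s = 1 := fpf h hsT (mul_inv_eq_iff_eq_mul.mp e3) (D_orderOf_odd h huH hd) (fun e => hd1 (Subtype.ext e))
      have ht : t = t' := Subtype.ext (inv_mul_eq_one.mp (hs ▸ hs1)).symm
      subst ht
      simp only [mul_left_inj, mul_right_inj] at e1
      subst e1
      rfl
    · rintro ⟨⟨i, x⟩, ⟨hio, hiH⟩, hxD, hx1⟩
      obtain ⟨d, hd, t, ht, hdt⟩ := decomp h hu huH hxD.1
      have hd1 : d ≠ 1 := fun e => by
        rw [e, one_mul] at hdt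
        exact hx1 (disjoint_T_D h hiH (hdt ▸ ht) hxD)
      -- solve `d t = s d s⁻¹` in `T`
      obtain ⟨s, hs⟩ : ∃ s : ↥(T : Subgroup G), (s : G) * d * (s : G)⁻¹ = d * t := by
        let f : ↥(T : Subgroup G) → ↥(T : Subgroup G) := fun s => ⟨d⁻¹ * s * d * (s : G)⁻¹,
          (T : Subgroup G).mul_mem (by
            have := (Subgroup.mem_normalizer_iff''.mp hd.1 (s : G)).mp s.2
            simpa [mul_assoc] using this) ((T : Subgroup G).inv_mem s.2)⟩
        have hf : Function.Injective f := by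
          intro a b e
          have e' : d⁻¹ * (a : G) * d * (a : G)⁻¹ = d⁻¹ * b * d * (b : G)⁻¹ := congrArg Subtype.val e
          refine Subtype.ext (inv_mul_eq_one.mp (fpf h ((T : Subgroup G).mul_mem ((T : Subgroup G).inv_mem a.2) b.2) ?_
            (D_orderOf_odd h huH hd) hd1))
          calc (a : G)⁻¹ * b * d = (a : G)⁻¹ * (d * (d⁻¹ * b * d * (b : G)⁻¹)) * b := by group
            _ = (a : G)⁻¹ * (d * (d⁻¹ * a * d * (a : G)⁻¹)) * b := by rw [e']
            _ = _ := by group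
        obtain ⟨s, hs⟩ := Finite.injective_iff_surjective.mp hf ⟨t, ht⟩
        refine ⟨s, ?_⟩
        rw [← show d⁻¹ * (s : G) * d * (s : G)⁻¹ = t from congrArg Subtype.val hs]
        group
      rw [← hdt] at hs
      set v := u⁻¹ * ((s : G)⁻¹ * i * s) with hv
      have hiv : (s : G)⁻¹ * i * s = u * v := by rw [hv, mul_inv_cancel_left]
      have hvd : v * d = d * v := by
        have e1 : (s : G)⁻¹ * i * s * d * ((s : G)⁻¹ * i * s)⁻¹ = d⁻¹ := by
          calc (s : G)⁻¹ * i * s * d * ((s : G)⁻¹ * i * s)⁻¹ = (s : G)⁻¹ * (i * (s * d * (s : G)⁻¹) * i⁻¹) * s := by group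
            _ = (s : G)⁻¹ * x⁻¹ * s := by rw [hs, inverts h hio hiH x hxD]
            _ = (s : G)⁻¹ * (s * d * (s : G)⁻¹)⁻¹ * s := by rw [hs]
            _ = d⁻¹ := by group
        rw [hiv, show u * v * d * (u * v)⁻¹ = u * (v * d * v⁻¹) * u⁻¹ by group, ← inverts h hu huH d hd] at e1
        exact mul_inv_eq_iff_eq_mul.mp (mul_left_cancel (mul_right_cancel e1))
      have hvK : v ∈ K := by
        rw [hK, hD, ← centralizer_eq_centralizer h hu huH hd hd1]
        exact mem_centralizer_singleton_iff.mpr hvd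
      refine ⟨(s, ⟨⟨d, hd⟩, fun e => hd1 (congrArg Subtype.val e)⟩, ⟨v, hvK⟩), Subtype.ext (Prod.ext ?_ hs)⟩
      show (s : G) * (u * v) * (s : G)⁻¹ = i
      rw [← hiv]; group
  have hsub : ∀ (E : Subgroup G), Nat.card {d : ↥E // d ≠ 1} = Nat.card E - 1 := by
    intro E
    have := Fintype.ofFinite ↥E
    rw [Nat.card_eq_fintype_card, Fintype.card_subtype_compl, Fintype.card_subtype_eq, Nat.card_eq_fintype_card]
  have hA : Nat.card A = Nat.card {i : G // orderOf i = 2 ∧ i ∉ Hn} * (Nat.card T - 2) := by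
    have := Fintype.ofFinite {i : G // orderOf i = 2 ∧ i ∉ Hn}
    have e : A ≃ Σ i : {i : G // orderOf i = 2 ∧ i ∉ Hn}, {x : ↥(Dn T (i : G)) // x ≠ 1} :=
      ⟨fun p => ⟨⟨p.1.1, p.2.1⟩, ⟨p.1.2, p.2.2.1⟩, fun e => p.2.2.2 (congrArg Subtype.val e)⟩,
        fun q => ⟨((q.1 : G), ((q.2.1 : ↥(Dn T (q.1 : G))) : G)), q.1.2, q.2.1.2, fun e => q.2.2 (Subtype.ext e)⟩,
        fun _ => rfl, fun _ => rfl⟩
    rw [Nat.card_congr e, Nat.card_sigma, Finset.sum_congr rfl (fun (i : {i : G // orderOf i = 2 ∧ i ∉ Hn}) _ => show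
      Nat.card {x : ↥(Dn T (i : G)) // x ≠ 1} = Nat.card T - 2 by rw [hsub]; have := card_D h i.2.1 i.2.2; omega),
      Finset.sum_const, Finset.card_univ, smul_eq_mul, ← Nat.card_eq_fintype_card (α := {i : G // orderOf i = 2 ∧ i ∉ Hn})]
  have hcard := Nat.card_eq_of_bijective F hF
  rw [Nat.card_prod, Nat.card_prod, hsub, hA] at hcard
  have hO := card_outside h
  have hDc := card_D h hu huH
  rw [← hD] at hDc
  have hq := card_T h
  obtain ⟨r, hr⟩ : ∃ r, Nat.card T = r + 2 := ⟨Nat.card T - 2, by omega⟩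
  have hqK : Nat.card T * Nat.card K = Nat.card {i : G // orderOf i = 2 ∧ i ∉ Hn} := by
    refine Nat.eq_of_mul_eq_mul_right (show 0 < Nat.card T - 2 by omega) ?_
    rw [← hcard, show Nat.card D - 1 = Nat.card T - 2 by omega]
    ring
  have hDK : D ≤ K := fun a ha b hb => D_comm h hu huH hb ha
  obtain ⟨m, hm⟩ := Subgroup.card_dvd_of_le hDK
  have hn : Subgroup.index Hn = Nat.card T * m + 1 := by
    refine Nat.eq_of_mul_eq_mul_right (show 0 < Nat.card T - 1 by omega) ?_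
    rw [← hO, ← hqK, hm, add_mul, one_mul, show Nat.card D = Nat.card T - 1 by omega]
    ring
  have hG := Subgroup.card_subgroup_dvd_card K
  rw [← Subgroup.card_mul_index Hn, card_H h, hm, hn, show Nat.card D = Nat.card T - 1 by omega] at hG
  have hm1 : m = 1 := by
    have h2 : m ∣ Nat.card T * (Nat.card T * m + 1) := by
      refine Nat.dvd_of_mul_dvd_mul_left (show 0 < Nat.card T - 1 by omega) (hG.trans (dvd_of_eq ?_))
      ring
    have h3 : m.Coprime (Nat.card T * m + 1) := by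
      rw [show Nat.card T * m + 1 = 1 + Nat.card T * m by ring]
      exact (Nat.coprime_add_mul_right_right m 1 (Nat.card T)).mpr (Nat.coprime_one_right m)
    have h4 := h3.dvd_of_dvd_mul_right h2
    obtain ⟨n, hn⟩ := IsPGroup.iff_card.mp T.2
    rw [hn] at h4
    obtain ⟨i, -, hi⟩ := (Nat.dvd_prime_pow Nat.prime_two).mp h4
    have hKodd : Odd (Nat.card K) := by
      rw [← Nat.not_even_iff_odd]
      intro he
      obtain ⟨t, ht⟩ := exists_prime_orderOf_dvd_card' (G := ↥K) 2 he.two_dvd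
      have := (hKprop t t.2).1
      rw [Subgroup.orderOf_coe, ht] at this
      exact absurd this (by decide)
    rw [hm] at hKodd
    have hodd := (Nat.odd_mul.mp hKodd).2
    rcases Nat.eq_zero_or_pos i with h0 | h0
    · rw [hi, h0, pow_zero]
    · rw [hi] at hodd
      exact absurd hodd (Nat.not_odd_iff_even.mpr (Nat.even_pow.mpr ⟨even_two, by omega⟩))
  subst hm1
  refine ⟨?_, by rw [hn, mul_one]⟩
  rw [Subgroup.eq_of_le_of_card_ge hDK (by rw [hm, mul_one])]

theorem fixed_iff (h : Hyp T) (hu : orderOf u = 2) (huH : u ∉ Hn) (g : G) :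
    (∀ d ∈ Dn T u, d • (QuotientGroup.mk g : G ⧸ Hn) = QuotientGroup.mk g) ↔
      (QuotientGroup.mk g : G ⧸ Hn) = QuotientGroup.mk 1 ∨ (QuotientGroup.mk g : G ⧸ Hn) = QuotientGroup.mk u := by
  have hu' := inv_eq_self_of_orderOf hu
  constructor
  · intro hfix
    by_cases hg : g ∈ Hn
    · exact Or.inl (QuotientGroup.eq.mpr (by rw [mul_one]; exact Subgroup.inv_mem _ hg))
    refine Or.inr ?_
    obtain ⟨s, hs, hso⟩ := exists_inv_mem h
    -- an involution in the coset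
    obtain ⟨⟨v, hv, hvg⟩⟩ : Nonempty {i : G // orderOf i = 2 ∧ (i : G ⧸ Hn) = (g : G ⧸ Hn)} := by
      by_contra hne
      rw [not_nonempty_iff] at hne
      have h1 := StrongEmb.card_coset_involutions (se h) (g : G ⧸ Hn)
      rw [Nat.card_of_isEmpty] at h1
      have := card_involutions h
      have := card_T h
      omega
    have hvH : v ∉ Hn := fun hm => hg (by
      have := QuotientGroup.eq.mp hvg
      simpa using Subgroup.mul_mem _ hm this)
    have hle : ∀ d ∈ Dn T u, d ∈ Dn T v := by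
      intro d hd
      have e := hfix d hd
      rw [← hvg, MulAction.Quotient.smul_mk, QuotientGroup.eq, smul_eq_mul] at e
      refine Subgroup.mem_inf.mpr ⟨hd.1, ⟨v⁻¹ * d * v, ?_, by show v * (v⁻¹ * d * v) * v⁻¹ = d; group⟩⟩
      have := Subgroup.inv_mem _ e
      simpa [mul_assoc] using this
    have hK : u * v ∈ centralizer ((Dn T u : Subgroup G) : Set G) := by
      intro d hd
      have e1 := inverts h hu huH d hd
      have e2 := inverts h hv hvH d⁻¹ ((Dn T v).inv_mem (hle d hd))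
      have e3 := inverts h hu huH d⁻¹ ((Dn T u).inv_mem hd)
      rw [inv_inv] at e2 e3
      have : u * v * d * (u * v)⁻¹ = d := by
        have e4 := inverts h hv hvH d (hle d hd)
        rw [show u * v * d * (u * v)⁻¹ = u * (v * d * v⁻¹) * u⁻¹ by group, e4, e3]
      exact (mul_inv_eq_iff_eq_mul.mp this).symm
    have huv := ((centralizer_le_D h hu huH).1 hK).1
    rw [← hvg]
    refine (QuotientGroup.eq.mpr ?_).symm
    rwa [hu']
  · rintro (e | e) d hd <;> rw [e, MulAction.Quotient.smul_mk, QuotientGroup.eq, smul_eq_mul]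
    · rw [mul_one, mul_one]
      exact Subgroup.inv_mem _ hd.1
    · obtain ⟨y, hy, e'⟩ := hd.2
      have e'' : u * y * u⁻¹ = d := e'
      rw [← e'', mul_inv_rev, show u⁻¹ = u from hu']
      have : (u * y * u)⁻¹ = u * y⁻¹ * u := by rw [mul_inv_rev, mul_inv_rev, hu', mul_assoc]
      rw [show u * (u * y * u)⁻¹ * u = u * (u * y⁻¹ * u) * u by rw [this],
        show u * (u * y⁻¹ * u) * u = (u * u) * y⁻¹ * (u * u) by group, mul_self_eq_one_of_orderOf hu, one_mul, mul_one]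
      exact Subgroup.inv_mem _ hy

theorem normalizer_D (h : Hyp T) (hu : orderOf u = 2) (huH : u ∉ Hn) :
    Subgroup.normalizer ((Dn T u : Subgroup G) : Set G) = (Dn T u) ⊔ Subgroup.zpowers u := by
  set D := Dn T u with hD
  have huD : u ∈ Subgroup.normalizer (D : Set G) := by
    have hh : ∀ d ∈ D, u * d * u⁻¹ ∈ D := fun d hd => by rw [inverts h hu huH d hd]; exact D.inv_mem hd
    refine Subgroup.mem_normalizer_iff.mpr fun d => ⟨hh d, fun hd => ?_⟩
    have := hh _ hd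
    rw [inv_eq_self_of_orderOf hu] at this
    rwa [show u * (u * d * u) * u = (u * u) * d * (u * u) by group, mul_self_eq_one_of_orderOf hu, one_mul, mul_one] at this
  refine le_antisymm ?_ (sup_le Subgroup.le_normalizer (Subgroup.zpowers_le.mpr huD))
  obtain ⟨d₁, hd₁, hd₁1⟩ := exists_D_ne_one h hu huH
  have inH : ∀ g ∈ Subgroup.normalizer (D : Set G), g ∈ Hn → g ∈ D := by
    intro g hg hgH
    obtain ⟨a, ha, t, ht, rfl⟩ := decomp h hu huH hgH
    have htn : t ∈ Subgroup.normalizer (D : Set G) :=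
      ((Subgroup.normalizer (D : Set G)).mul_mem_cancel_left (Subgroup.le_normalizer ha)).mp hg
    have h1 : t * d₁ * t⁻¹ * d₁⁻¹ = 1 := by
      refine disjoint_T_D h huH ?_ (D.mul_mem ((Subgroup.mem_normalizer_iff.mp htn d₁).mp hd₁) (D.inv_mem hd₁))
      rw [show t * d₁ * t⁻¹ * d₁⁻¹ = t * (d₁ * t⁻¹ * d₁⁻¹) by group]
      exact (T : Subgroup G).mul_mem ht ((Subgroup.mem_normalizer_iff.mp hd₁.1 _).mp ((T : Subgroup G).inv_mem ht))
    have h2 : t * d₁ = d₁ * t := mul_inv_eq_iff_eq_mul.mp (mul_inv_eq_one.mp h1)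
    rw [fpf h ht h2 (D_orderOf_odd h huH hd₁) hd₁1, mul_one]
    exact ha
  intro g hg
  have hfix := (fixed_iff h hu huH g).mp (fun d hd => by
    rw [MulAction.Quotient.smul_mk, QuotientGroup.eq, smul_eq_mul]
    have := ((Subgroup.mem_normalizer_iff''.mp hg d).mp hd).1
    have := Subgroup.inv_mem _ this
    simpa [mul_assoc] using this)
  rcases hfix with e | e
  · exact Subgroup.mem_sup_left (inH g hg (by have := Subgroup.inv_mem _ (QuotientGroup.eq.mp e); simpa using this))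
  · have h1 : u * g ∈ D := inH _ (Subgroup.mul_mem _ huD hg) (by
      have := Subgroup.inv_mem _ (QuotientGroup.eq.mp e)
      rwa [mul_inv_rev, inv_inv, inv_eq_self_of_orderOf hu] at this)
    rw [show g = u * (u * g) by rw [← mul_assoc, mul_self_eq_one_of_orderOf hu, one_mul]]
    exact Subgroup.mul_mem _ (Subgroup.mem_sup_right (Subgroup.mem_zpowers u)) (Subgroup.mem_sup_left h1)

theorem two_fixed (h : Hyp T) (hu : orderOf u = 2) (huH : u ∉ Hn) {d : G} (hd : d ∈ Dn T u) (hd1 : d ≠ 1) {g : G}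
    (hfix : d • (QuotientGroup.mk g : G ⧸ Hn) = QuotientGroup.mk g) (hg : g ∉ Hn) :
    (QuotientGroup.mk g : G ⧸ Hn) = QuotientGroup.mk u := by
  obtain ⟨⟨v, hv, hvg⟩⟩ : Nonempty {i : G // orderOf i = 2 ∧ (i : G ⧸ Hn) = (g : G ⧸ Hn)} := by
    by_contra hne
    rw [not_nonempty_iff] at hne
    have h1 := StrongEmb.card_coset_involutions (se h) (g : G ⧸ Hn)
    rw [Nat.card_of_isEmpty] at h1
    have := card_involutions h
    have := card_T h
    omega
  have hvH : v ∉ Hn := fun hm => hg (by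
    have := QuotientGroup.eq.mp hvg
    simpa using Subgroup.mul_mem _ hm this)
  rw [← hvg, MulAction.Quotient.smul_mk, QuotientGroup.eq, smul_eq_mul] at hfix
  have hdv : d ∈ Dn T v := Subgroup.mem_inf.mpr ⟨hd.1, ⟨v⁻¹ * d * v, by
    have := Subgroup.inv_mem _ hfix
    simpa [mul_assoc] using this, by show v * (v⁻¹ * d * v) * v⁻¹ = d; group⟩⟩
  have heq : Dn T v = Dn T u := by
    refine Subgroup.eq_of_le_of_card_ge (fun x hx => centralizer_inf h hu huH hd hd1 ?_ hx.1) ?_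
    · exact D_comm h hv hvH hx hdv
    · have := card_D h hv hvH
      have := card_D h hu huH
      omega
  have hfix' : ∀ x ∈ Dn T u, x • (QuotientGroup.mk g : G ⧸ Hn) = QuotientGroup.mk g := by
    intro x hx
    rw [← heq] at hx
    rw [← hvg, MulAction.Quotient.smul_mk, QuotientGroup.eq, smul_eq_mul]
    obtain ⟨y, hy, e⟩ := hx.2
    rw [← show v * y * v⁻¹ = x from e]
    simpa [mul_assoc] using Subgroup.inv_mem _ hy
  rcases (fixed_iff h hu huH g).mp hfix' with e | e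
  · exact absurd (by have := Subgroup.inv_mem _ (QuotientGroup.eq.mp e); simpa using this) hg
  · exact e

end CfsgLib.CAGroup
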