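import Mathlib.GroupTheory.Transfer
import Mathlib.GroupTheory.Sylow
import Cfsg.Agent.Lib.Transfer

/-!
Transfer into an abelian quotient under a fusion condition on one element.
-/

set_option autoImplicit false
set_option linter.unusedSectionVars false

namespace CfsgLib.TransferControlOne

open MulAction Subgroup

variable {G : Type*} [Group G] [Finite G] {H : Subgroup G} {A : Type*} [CommGroup A]

theorem transfer_eq_pow_index (φ : ↥H →* A) {g : G} (hg : g ∈ H)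
    (key : ∀ (n : ℕ) (a : G) (ha : a⁻¹ * g ^ n * a ∈ H), φ ⟨a⁻¹ * g ^ n * a, ha⟩ = φ ⟨g, hg⟩ ^ n) :
    MonoidHom.transfer φ g = φ ⟨g, hg⟩ ^ H.index := by
  classical
  letI := H.fintypeQuotientOfFiniteIndex
  rw [MonoidHom.transfer_eq_prod_quotient_orbitRel_zpowers_quot]
  simp only [key]
  rw [Finset.prod_pow_eq_pow_sum, ← index_eq_sum_minimalPeriod H g]

variable {p : ℕ} [Fact p.Prime]

theorem coprime_part (g : G) : ∃ i : ℕ, (∃ k : ℕ, orderOf (g ^ i) = p ^ k) ∧ ∃ j : ℕ,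
    (orderOf (g ^ j)).Coprime p ∧ g = g ^ i * g ^ j := by
  obtain ⟨k, m, hm, hk⟩ := Nat.exists_eq_pow_mul_and_not_dvd (orderOf_pos g).ne' p (Fact.out : p.Prime).ne_one
  have hcop : (p ^ k).Coprime m := Nat.Coprime.pow_left k ((Fact.out : p.Prime).coprime_iff_not_dvd.mpr hm)
  obtain ⟨a, ha1, ha2⟩ := Nat.chineseRemainder hcop 1 0
  obtain ⟨b, hb1, hb2⟩ := Nat.chineseRemainder hcop 0 1
  refine ⟨a, ?_, b, ?_, ?_⟩
  · obtain ⟨i, -, hi⟩ := (Nat.dvd_prime_pow (Fact.out : p.Prime)).mp (orderOf_dvd_of_pow_eq_one (x := g ^ a) (n := p ^ k) (by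
      obtain ⟨c, hc⟩ := Nat.modEq_zero_iff_dvd.mp ha2
      rw [← pow_mul, hc, show m * c * p ^ k = p ^ k * m * c by ring, ← hk, pow_mul, pow_orderOf_eq_one, one_pow]))
    exact ⟨i, hi⟩
  · refine Nat.Coprime.coprime_dvd_left (orderOf_dvd_of_pow_eq_one (x := g ^ b) (n := m) ?_)
      ((Fact.out : p.Prime).coprime_iff_not_dvd.mpr hm).symm
    obtain ⟨c, hc⟩ := Nat.modEq_zero_iff_dvd.mp hb1
    rw [← pow_mul, hc, show p ^ k * c * m = p ^ k * m * c by ring, ← hk, pow_mul, pow_orderOf_eq_one, one_pow]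
  · have h : a + b ≡ 1 [MOD orderOf g] := by
      rw [hk, ← Nat.modEq_and_modEq_iff_modEq_mul hcop]
      exact ⟨ha1.add hb1, ha2.add hb2⟩
    rw [← pow_add]
    conv_lhs => rw [← pow_one g]
    exact (pow_eq_pow_iff_modEq.mpr h).symm

end CfsgLib.TransferControlOne
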